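/-
An abstract group with the symmetry of `SL₃`: a root group, the monomial `S₃` and the torus.
The commutation of two root groups in one row or column follows from three chain relations.
-/
import Cfsg.Agent.Lib.SL2Presentation.SteinbergNCard
import Cfsg.Agent.Lib.GL.Basic

set_option autoImplicit false
set_option linter.unusedSectionVars false

namespace Cfsg.Agent.SL3Presentation

open Cfsg.Agent.SL2Presentation

variable {F : Type*} [Field F] {G : Type*} [Group G]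

/-- The root group, the symmetry and the torus. -/
structure Data (ω : Fˣ) (G : Type*) [Group G] where
  ψ : F → G
  w : G
  s : G
  h : G
  add : ∀ a b, ψ (a + b) = ψ a * ψ b
  w3 : w * w * w = 1
  s2 : s * s = 1
  sw : s * w * s⁻¹ = w⁻¹
  hh : Commute h (w * h * w⁻¹)
  sh : s * h * s⁻¹ = h⁻¹
  h3 : h * (w * h * w⁻¹) * (w * (w * h * w⁻¹) * w⁻¹) = 1
  act0 : ∀ a, h * ψ a * h⁻¹ = ψ ((ω : F) ^ 2 * a)
  act1 : ∀ a, (w * h * w⁻¹) * ψ a * (w * h * w⁻¹)⁻¹ = ψ ((ω : F)⁻¹ * a)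

namespace Data

variable {ω : Fˣ} (D : Data ω G)

/-- The six root groups. -/
def x : Fin 3 → Fin 3 → F → G :=
  ![![fun _ => 1, D.ψ, fun a => D.w * (D.w * (D.s * D.ψ a * D.s⁻¹) * D.w⁻¹) * D.w⁻¹],
    ![fun a => D.s * D.ψ a * D.s⁻¹, fun _ => 1, fun a => D.w * D.ψ a * D.w⁻¹],
    ![fun a => D.w * (D.w * D.ψ a * D.w⁻¹) * D.w⁻¹, fun a => D.w * (D.s * D.ψ a * D.s⁻¹) * D.w⁻¹, fun _ => 1]]

theorem x01 (a : F) : D.x 0 1 a = D.ψ a := rfl
theorem x12 (a : F) : D.x 1 2 a = D.w * D.ψ a * D.w⁻¹ := rfl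
theorem x20 (a : F) : D.x 2 0 a = D.w * (D.w * D.ψ a * D.w⁻¹) * D.w⁻¹ := rfl
theorem x10 (a : F) : D.x 1 0 a = D.s * D.ψ a * D.s⁻¹ := rfl
theorem x21 (a : F) : D.x 2 1 a = D.w * (D.s * D.ψ a * D.s⁻¹) * D.w⁻¹ := rfl
theorem x02 (a : F) : D.x 0 2 a = D.w * (D.w * (D.s * D.ψ a * D.s⁻¹) * D.w⁻¹) * D.w⁻¹ := rfl

theorem w_conj_three (g : G) : D.w * (D.w * (D.w * g * D.w⁻¹) * D.w⁻¹) * D.w⁻¹ = g := by
  calc D.w * (D.w * (D.w * g * D.w⁻¹) * D.w⁻¹) * D.w⁻¹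
      = (D.w * D.w * D.w) * g * (D.w * D.w * D.w)⁻¹ := by group
    _ = g := by rw [D.w3, one_mul, inv_one, mul_one]

theorem s_conj_two (g : G) : D.s * (D.s * g * D.s⁻¹) * D.s⁻¹ = g := by
  calc D.s * (D.s * g * D.s⁻¹) * D.s⁻¹ = (D.s * D.s) * g * (D.s * D.s)⁻¹ := by group
    _ = g := by rw [D.s2, one_mul, inv_one, mul_one]

theorem s_w_conj (g : G) : D.s * (D.w * g * D.w⁻¹) * D.s⁻¹ = D.w * (D.w * (D.s * g * D.s⁻¹) * D.w⁻¹) * D.w⁻¹ := by
  have e : D.s * D.w = D.w * D.w * D.s := by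
    have h1 : D.w⁻¹ = D.w * D.w := inv_eq_of_mul_eq_one_left D.w3
    rw [← h1]; exact mul_inv_eq_iff_eq_mul.1 D.sw
  calc D.s * (D.w * g * D.w⁻¹) * D.s⁻¹ = (D.s * D.w) * g * (D.s * D.w)⁻¹ := by group
    _ = (D.w * D.w * D.s) * g * (D.w * D.w * D.s)⁻¹ := by rw [e]
    _ = _ := by group

/-- `g` realises the permutation `π` on the root groups. -/
def Good (π : Equiv.Perm (Fin 3)) : Prop :=
  ∃ g : G, ∀ i j, i ≠ j → ∀ a, g * D.x i j a * g⁻¹ = D.x (π i) (π j) a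

theorem Good.mul {π π' : Equiv.Perm (Fin 3)} (h : D.Good π) (h' : D.Good π') : D.Good (π * π') := by
  obtain ⟨g, hg⟩ := h
  obtain ⟨g', hg'⟩ := h'
  refine ⟨g * g', fun i j hij a => ?_⟩
  rw [Equiv.Perm.mul_apply, Equiv.Perm.mul_apply, ← hg (π' i) (π' j) (fun e => hij (π'.injective e)) a,
    ← hg' i j hij a]
  group

theorem w_conj_x (i j : Fin 3) (hij : i ≠ j) (a : F) : D.w * D.x i j a * D.w⁻¹ = D.x (i + 1) (j + 1) a := by
  fin_cases i <;> fin_cases j <;> simp at hij <;> simp [x, D.w_conj_three]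

theorem s_conj_x (i j : Fin 3) (hij : i ≠ j) (a : F) :
    D.s * D.x i j a * D.s⁻¹ = D.x (Equiv.swap 0 1 i) (Equiv.swap 0 1 j) a := by
  fin_cases i <;> fin_cases j <;> simp at hij <;>
    simp [x, Equiv.swap_apply_of_ne_of_ne, D.s_conj_two, D.s_w_conj, D.w_conj_three]

theorem good (π : Equiv.Perm (Fin 3)) : D.Good π := by
  have hw : D.Good (finRotate 3) := ⟨D.w, fun i j hij a => by
    rw [finRotate_succ_apply, finRotate_succ_apply]; exact D.w_conj_x i j hij a⟩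
  have hs : D.Good (Equiv.swap 0 1) := ⟨D.s, fun i j hij a => D.s_conj_x i j hij a⟩
  have h1 : D.Good 1 := ⟨1, fun i j _ a => by simp⟩
  have hall : ∀ π : Equiv.Perm (Fin 3), π = 1 ∨ π = finRotate 3 ∨ π = finRotate 3 * finRotate 3 ∨
      π = Equiv.swap 0 1 ∨ π = Equiv.swap 0 1 * finRotate 3 ∨
      π = Equiv.swap 0 1 * (finRotate 3 * finRotate 3) := by decide
  rcases hall π with e | e | e | e | e | e <;> rw [e]
  exacts [h1, hw, hw.mul D hw, hs, hs.mul D hw, hs.mul D (hw.mul D hw)]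

theorem exists_perm (i j l : Fin 3) (hij : i ≠ j) (hjl : j ≠ l) (hil : i ≠ l) :
    ∃ π : Equiv.Perm (Fin 3), π 0 = i ∧ π 1 = j ∧ π 2 = l := by
  revert i j l; decide

/-! ### The torus -/

/-- `g` scales the root group `ij` by `χ`. -/
def Acts (g : G) (i j : Fin 3) (χ : F) : Prop := ∀ a, g * D.x i j a * g⁻¹ = D.x i j (χ * a)

theorem Acts.mul {g g' : G} {i j : Fin 3} {χ χ' : F} (h : D.Acts g i j χ) (h' : D.Acts g' i j χ') :
    D.Acts (g * g') i j (χ * χ') := fun a => by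
  calc g * g' * D.x i j a * (g * g')⁻¹ = g * (g' * D.x i j a * g'⁻¹) * g⁻¹ := by group
    _ = _ := by rw [h', h, mul_assoc]

theorem Acts.inv {g : G} {i j : Fin 3} {χ : F} (h : D.Acts g i j χ) (hχ : χ ≠ 0) : D.Acts g⁻¹ i j χ⁻¹ :=
  fun a => by
    have e := h (χ⁻¹ * a)
    rw [mul_inv_cancel_left₀ hχ] at e
    rw [← e]; group

theorem acts_one (i j : Fin 3) : D.Acts 1 i j 1 := fun a => by simp

theorem Acts.pow {g : G} {i j : Fin 3} {χ : F} (h : D.Acts g i j χ) : ∀ n : ℕ, D.Acts (g ^ n) i j (χ ^ n)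
  | 0 => by simpa using D.acts_one i j
  | n + 1 => by rw [pow_succ, pow_succ]; exact Acts.mul D (Acts.pow h n) h

/-- Transport of a scaling along a conjugation. -/
theorem Acts.transport {g k : G} {i j i' j' : Fin 3} {χ : F}
    (hk : ∀ a, k * D.x i j a * k⁻¹ = D.x i' j' a) (h : D.Acts g i j χ) : D.Acts (k * g * k⁻¹) i' j' χ :=
  fun a => by
    rw [← hk a, ← hk (χ * a), ← h a]; group

/-- The second torus element. -/
def h1 : G := D.w * D.h * D.w⁻¹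

theorem sh1 : D.s * D.h1 * D.s⁻¹ = D.h * D.h1 := by
  have e : D.s * D.h1 * D.s⁻¹ = D.w * (D.w * D.h⁻¹ * D.w⁻¹) * D.w⁻¹ := by
    rw [h1, D.s_w_conj, D.sh]
  rw [e]
  calc D.w * (D.w * D.h⁻¹ * D.w⁻¹) * D.w⁻¹ = (D.w * (D.w * D.h * D.w⁻¹) * D.w⁻¹)⁻¹ := by simp [mul_assoc]
    _ = D.h * (D.w * D.h * D.w⁻¹) := inv_eq_of_mul_eq_one_left D.h3

theorem winv_h : D.w⁻¹ * D.h * D.w = (D.h * D.h1)⁻¹ := by
  have h' : D.w⁻¹ = D.w * D.w := inv_eq_of_mul_eq_one_left D.w3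
  have e : (D.h * D.h1)⁻¹ = D.w * (D.w * D.h * D.w⁻¹) * D.w⁻¹ := inv_eq_of_mul_eq_one_right D.h3
  rw [e]
  calc D.w⁻¹ * D.h * D.w = D.w⁻¹ * D.h * (D.w⁻¹)⁻¹ := by rw [inv_inv]
    _ = (D.w * D.w) * D.h * (D.w * D.w)⁻¹ := by rw [← h']
    _ = _ := by group

theorem ω_ne : ((ω : F)) ≠ 0 := ω.ne_zero

theorem h_01 : D.Acts D.h 0 1 ((ω : F) ^ 2) := D.act0

theorem h1_01 : D.Acts D.h1 0 1 ((ω : F)⁻¹) := D.act1

theorem hh1_01 : D.Acts (D.h * D.h1) 0 1 (ω : F) := by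
  have h := Acts.mul D D.h_01 D.h1_01
  rwa [pow_two, mul_assoc, mul_inv_cancel₀ (ω_ne (ω := ω)), mul_one] at h

theorem h_12 : D.Acts D.h 1 2 ((ω : F)⁻¹) := by
  have h := Acts.transport D (k := D.w) (i' := 1) (j' := 2) (fun a => D.w_conj_x 0 1 (by decide) a)
    (Acts.inv D D.hh1_01 (ω_ne (ω := ω)))
  rwa [← D.winv_h, show D.w * (D.w⁻¹ * D.h * D.w) * D.w⁻¹ = D.h by group] at h

theorem h1_12 : D.Acts D.h1 1 2 ((ω : F) ^ 2) :=
  Acts.transport D (k := D.w) (i' := 1) (j' := 2) (fun a => D.w_conj_x 0 1 (by decide) a) D.h_01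

theorem s_conj_12 (a : F) : D.s * D.x 1 2 a * D.s⁻¹ = D.x 0 2 a := by
  rw [D.s_conj_x 1 2 (by decide)]; rfl

theorem h_02 : D.Acts D.h 0 2 (ω : F) := by
  have h := Acts.transport D (k := D.s) D.s_conj_12 (Acts.inv D D.h_12 (inv_ne_zero (ω_ne (ω := ω))))
  rw [inv_inv, show D.s * D.h⁻¹ * D.s⁻¹ = (D.s * D.h * D.s⁻¹)⁻¹ by group, D.sh, inv_inv] at h
  exact h

theorem h1_02 : D.Acts D.h1 0 2 (ω : F) := by
  have hi : D.s⁻¹ = D.s := inv_eq_of_mul_eq_one_left D.s2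
  have h0 := Acts.mul D D.h_12 D.h1_12
  rw [pow_two, ← mul_assoc, inv_mul_cancel₀ (ω_ne (ω := ω)), one_mul] at h0
  have h := Acts.transport D (k := D.s) D.s_conj_12 h0
  rw [← D.sh1, show D.s * (D.s * D.h1 * D.s⁻¹) * D.s⁻¹ = D.h1 from D.s_conj_two _] at h
  exact h

theorem exists_acts (a b : ℕ) : ∃ g : G, D.Acts g 0 1 ((ω : F) ^ (3 * a)) ∧ D.Acts g 1 2 ((ω : F) ^ (3 * b)) ∧
    D.Acts g 0 2 ((ω : F) ^ (3 * (a + b))) := by
  have hω := ω_ne (ω := ω)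
  have e1 := Acts.pow D (Acts.mul D (Acts.pow D D.h_01 2) D.h1_01) a
  have e2 := Acts.pow D (Acts.mul D (Acts.pow D D.h_12 2) D.h1_12) a
  have e3 := Acts.pow D (Acts.mul D (Acts.pow D D.h_02 2) D.h1_02) a
  have f1 := Acts.pow D (Acts.mul D D.h_01 (Acts.pow D D.h1_01 2)) b
  have f2 := Acts.pow D (Acts.mul D D.h_12 (Acts.pow D D.h1_12 2)) b
  have f3 := Acts.pow D (Acts.mul D D.h_02 (Acts.pow D D.h1_02 2)) b
  refine ⟨(D.h ^ 2 * D.h1) ^ a * (D.h * D.h1 ^ 2) ^ b, ?_, ?_, ?_⟩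
  · have := Acts.mul D e1 f1
    rwa [show (((ω : F) ^ 2) ^ 2 * (ω : F)⁻¹) = (ω : F) ^ 3 by field_simp,
      show ((ω : F) ^ 2 * ((ω : F)⁻¹) ^ 2) = 1 by field_simp, one_pow, mul_one, ← pow_mul] at this
  · have := Acts.mul D e2 f2
    rwa [show (((ω : F)⁻¹) ^ 2 * (ω : F) ^ 2) = 1 by field_simp,
      show ((ω : F)⁻¹ * ((ω : F) ^ 2) ^ 2) = (ω : F) ^ 3 by field_simp, one_pow, one_mul, ← pow_mul] at this
  · have := Acts.mul D e3 f3
    rwa [show ((ω : F) ^ 2 * (ω : F)) = (ω : F) ^ 3 by ring,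
      show ((ω : F) * (ω : F) ^ 2) = (ω : F) ^ 3 by ring, ← pow_mul, ← pow_mul, ← pow_add, ← mul_add] at this

/-! ### The chain relation -/

/-- The chain relation at a pair of parameters. -/
def K (a b : F) : Prop := D.x 0 1 a * D.x 1 2 b = D.x 0 2 (a * b) * D.x 1 2 b * D.x 0 1 a

theorem K.conj {a b χ χ' : F} {g : G} (h : D.K a b) (h1 : D.Acts g 0 1 χ) (h2 : D.Acts g 1 2 χ')
    (h3 : D.Acts g 0 2 (χ * χ')) : D.K (χ * a) (χ' * b) := by
  show _ = _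
  rw [← h1 a, ← h2 b, show χ * a * (χ' * b) = χ * χ' * (a * b) by ring, ← h3 (a * b)]
  calc g * D.x 0 1 a * g⁻¹ * (g * D.x 1 2 b * g⁻¹) = g * (D.x 0 1 a * D.x 1 2 b) * g⁻¹ := by group
    _ = g * (D.x 0 2 (a * b) * D.x 1 2 b * D.x 0 1 a) * g⁻¹ := by rw [h]
    _ = _ := by group

theorem add_x (i j : Fin 3) (hij : i ≠ j) (a b : F) : D.x i j (a + b) = D.x i j a * D.x i j b := by
  fin_cases i <;> fin_cases j <;> simp at hij <;> simp [x, D.add, mul_assoc]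

/-- The two kinds of commuting pairs. -/
def RowComm : Prop := ∀ a c, Commute (D.x 0 1 a) (D.x 0 2 c)

/-- The two kinds of commuting pairs. -/
def ColComm : Prop := ∀ b c, Commute (D.x 1 2 b) (D.x 0 2 c)

theorem row_of_triple {a a' : F} (h : D.K a 1) (h' : D.K a' 1) (h'' : D.K (a + a') 1) :
    Commute (D.x 0 1 a) (D.x 0 2 a') := by
  simp only [K, mul_one] at h h' h''
  rw [D.add_x 0 1 (by decide)] at h''
  show D.x 0 1 a * D.x 0 2 a' = D.x 0 2 a' * D.x 0 1 a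
  refine mul_right_cancel (b := D.x 1 2 1 * D.x 0 1 a') ?_
  calc D.x 0 1 a * D.x 0 2 a' * (D.x 1 2 1 * D.x 0 1 a')
      = D.x 0 1 a * (D.x 0 1 a' * D.x 1 2 1) := by rw [h']; group
    _ = D.x 0 2 (a' + a) * D.x 1 2 1 * (D.x 0 1 a * D.x 0 1 a') := by rw [← mul_assoc, h'', add_comm a a']
    _ = D.x 0 2 a' * (D.x 0 2 a * D.x 1 2 1 * D.x 0 1 a) * D.x 0 1 a' := by rw [D.add_x 0 2 (by decide)]; group
    _ = D.x 0 2 a' * D.x 0 1 a * (D.x 1 2 1 * D.x 0 1 a') := by rw [← h]; group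

theorem col_of_triple {b b' : F} (h : D.K 1 b) (h' : D.K 1 b') (h'' : D.K 1 (b + b')) :
    Commute (D.x 1 2 b) (D.x 0 2 b') := by
  simp only [K, one_mul] at h h' h''
  rw [D.add_x 1 2 (by decide), D.add_x 0 2 (by decide)] at h''
  show D.x 1 2 b * D.x 0 2 b' = D.x 0 2 b' * D.x 1 2 b
  refine mul_left_cancel (a := D.x 0 2 b) (mul_right_cancel (b := D.x 1 2 b' * D.x 0 1 1) ?_)
  calc D.x 0 2 b * (D.x 1 2 b * D.x 0 2 b') * (D.x 1 2 b' * D.x 0 1 1)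
      = D.x 0 2 b * D.x 1 2 b * (D.x 0 1 1 * D.x 1 2 b') := by rw [h']; group
    _ = D.x 0 1 1 * (D.x 1 2 b * D.x 1 2 b') := by rw [← mul_assoc, ← mul_assoc, ← h]
    _ = _ := by rw [h'']; group

/-- The parameters commuting with `g` form a subgroup. -/
def commSet (i j : Fin 3) (hij : i ≠ j) (g : G) (c : F) : AddSubgroup F where
  carrier := {z | Commute g (D.x i j (z * c))}
  add_mem' {z z'} hz hz' := by
    show Commute g (D.x i j ((z + z') * c))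
    rw [add_mul, D.add_x i j hij]; exact hz.mul_right hz'
  zero_mem' := by
    show Commute g (D.x i j (0 * c))
    rw [zero_mul, show D.x i j (0 : F) = 1 from by
      have := D.add_x i j hij 0 0
      rw [add_zero] at this
      exact left_eq_mul.1 this]
    exact Commute.one_right g
  neg_mem' {z} hz := by
    show Commute g (D.x i j (-z * c))
    rw [neg_mul, show D.x i j (-(z * c)) = (D.x i j (z * c))⁻¹ from by
      refine eq_inv_of_mul_eq_one_left ?_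
      rw [← D.add_x i j hij, neg_add_cancel]
      have := D.add_x i j hij 0 0
      rw [add_zero] at this
      exact left_eq_mul.1 this]
    exact Commute.inv_right hz

variable (hgen : ∀ z : F, z ≠ 0 → ∃ n : ℕ, (ω : F) ^ n = z)
  (hspan : ∀ S : AddSubgroup F, (∀ k : ℕ, (ω : F) ^ (3 * k) ∈ S) → S = ⊤)

include hgen hspan

theorem comm_extend {i j i' j' : Fin 3} (hij' : i' ≠ j') {a₀ c₀ : F} (ha : a₀ ≠ 0) (hc : c₀ ≠ 0)
    (h : Commute (D.x i j a₀) (D.x i' j' c₀))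
    (hfix : ∀ k : ℕ, ∃ g, D.Acts g i j 1 ∧ D.Acts g i' j' ((ω : F) ^ (3 * k)))
    {g' : G} {χ : F} (hχ : χ ≠ 0) (hg : D.Acts g' i j (ω : F)) (hg2 : D.Acts g' i' j' χ)
    (h0 : D.x i j 0 = 1) (a c : F) :
    Commute (D.x i j a) (D.x i' j' c) := by
  have hall : ∀ z, Commute (D.x i j a₀) (D.x i' j' z) := by
    intro z
    have hS : D.commSet i' j' hij' (D.x i j a₀) c₀ = ⊤ := hspan _ fun k => by
      obtain ⟨g, hg1, hg3⟩ := hfix k
      show Commute (D.x i j a₀) (D.x i' j' ((ω : F) ^ (3 * k) * c₀))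
      have e := h.map (MulAut.conj g).toMonoidHom
      simp only [MulEquiv.coe_toMonoidHom, MulAut.conj_apply] at e
      rwa [hg1, hg3, one_mul] at e
    have : z / c₀ ∈ D.commSet i' j' hij' (D.x i j a₀) c₀ := hS ▸ AddSubgroup.mem_top _
    have : Commute (D.x i j a₀) (D.x i' j' (z / c₀ * c₀)) := this
    rwa [div_mul_cancel₀ _ hc] at this
  rcases eq_or_ne a 0 with rfl | ha'
  · rw [h0]; exact Commute.one_left _
  obtain ⟨n, hn⟩ := hgen (a / a₀) (div_ne_zero ha' ha)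
  have e := (hall (c / χ ^ n)).map (MulAut.conj (g' ^ n)).toMonoidHom
  simp only [MulEquiv.coe_toMonoidHom, MulAut.conj_apply] at e
  rwa [Acts.pow D hg n, Acts.pow D hg2 n, hn, div_mul_cancel₀ _ ha, mul_div_cancel₀ _ (pow_ne_zero _ hχ)] at e

theorem rowComm {a₀ c₀ : F} (ha : a₀ ≠ 0) (hc : c₀ ≠ 0) (h : Commute (D.x 0 1 a₀) (D.x 0 2 c₀)) : D.RowComm := by
  intro a c
  refine D.comm_extend hgen hspan (by decide) ha hc h (fun k => ?_) (g' := D.h * D.h1) (χ := (ω : F) * ω)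
    (mul_ne_zero (ω_ne (ω := ω)) (ω_ne (ω := ω))) D.hh1_01 (Acts.mul D D.h_02 D.h1_02) ?_ a c
  · obtain ⟨g, g1, -, g3⟩ := D.exists_acts 0 k
    exact ⟨g, by simpa using g1, by simpa using g3⟩
  · exact psi_zero D.add

theorem colComm {b₀ c₀ : F} (hb : b₀ ≠ 0) (hc : c₀ ≠ 0) (h : Commute (D.x 1 2 b₀) (D.x 0 2 c₀)) : D.ColComm := by
  intro b c
  refine D.comm_extend hgen hspan (by decide) hb hc h (fun k => ?_) (g' := D.h⁻¹) (χ := (ω : F)⁻¹)
    (inv_ne_zero (ω_ne (ω := ω))) ?_ (Acts.inv D D.h_02 (ω_ne (ω := ω))) ?_ b c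
  · obtain ⟨g, -, g2, g3⟩ := D.exists_acts k 0
    exact ⟨g, by simpa using g2, by simpa using g3⟩
  · have := Acts.inv D D.h_12 (inv_ne_zero (ω_ne (ω := ω)))
    rwa [inv_inv] at this
  · rw [x12, psi_zero D.add, mul_one, mul_inv_cancel]

omit hspan in
theorem K_all_of_line (h : ∀ b, D.K 1 b) (a b : F) : D.K a b := by
  have hω := ω_ne (ω := ω)
  rcases eq_or_ne a 0 with rfl | ha
  · show _ = _
    rw [zero_mul, show D.x 0 1 (0 : F) = 1 from psi_zero D.add, show D.x 0 2 (0 : F) = 1 by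
      simp [x, psi_zero D.add]]
    simp
  obtain ⟨n, hn⟩ := hgen a ha
  have h1 := Acts.pow D D.hh1_01 n
  have h2 := Acts.pow D (Acts.mul D D.h_12 D.h1_12) n
  have h3 := Acts.pow D (Acts.mul D D.h_02 D.h1_02) n
  rw [show ((ω : F)⁻¹ * (ω : F) ^ 2) = ω by field_simp] at h2
  rw [mul_pow] at h3
  have := K.conj D (h (b / (ω : F) ^ n)) h1 h2 h3
  rwa [mul_one, hn, mul_div_cancel₀ _ (hn ▸ ha)] at this

theorem K_all (hcol : D.ColComm) (h : D.K 1 1) (a b : F) : D.K a b := by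
  refine D.K_all_of_line hgen ?_ a b
  let S : AddSubgroup F :=
    { carrier := {b | D.K 1 b}
      add_mem' := fun {b b'} (hb : D.K 1 b) (hb' : D.K 1 b') => by
        show _ = _
        simp only [K, one_mul] at hb hb'
        rw [one_mul, D.add_x 1 2 (by decide), D.add_x 0 2 (by decide), ← mul_assoc, hb, mul_assoc (_ * _), hb',
          ← mul_assoc, ← mul_assoc, mul_assoc (D.x 0 2 b) (D.x 1 2 b) (D.x 0 2 b'), (hcol b b').eq]
        group
      zero_mem' := by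
        show _ = _
        have h0 : D.ψ 0 = 1 := psi_zero D.add
        simp [x, h0]
      neg_mem' := fun {b} (hb : D.K 1 b) => by
        show _ = _
        simp only [K, one_mul] at hb
        have e : ∀ i j, i ≠ j → ∀ z, D.x i j (-z) = (D.x i j z)⁻¹ := fun i j hij z => by
          refine eq_inv_of_mul_eq_one_left ?_
          rw [← D.add_x i j hij, neg_add_cancel]
          have := D.add_x i j hij 0 0
          rw [add_zero] at this
          exact left_eq_mul.1 this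
        rw [one_mul, e 1 2 (by decide), e 0 2 (by decide)]
        have hb2 : D.x 0 1 1 = D.x 0 2 b * D.x 1 2 b * D.x 0 1 1 * (D.x 1 2 b)⁻¹ := eq_mul_inv_iff_mul_eq.2 hb
        conv_rhs => rw [hb2]
        rw [← mul_assoc, ← mul_assoc, ← mul_assoc, mul_assoc (D.x 0 2 b)⁻¹ (D.x 1 2 b)⁻¹ (D.x 0 2 b),
          (hcol b b).inv_left.eq, ← mul_assoc, inv_mul_cancel, one_mul, inv_mul_cancel, one_mul] }
  intro b
  have hS : S = ⊤ := hspan S fun k => by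
    obtain ⟨g, g1, g2, g3⟩ := D.exists_acts 0 k
    have := K.conj D h g1 g2 (by rw [← pow_add, ← mul_add]; exact g3)
    rwa [Nat.mul_zero, pow_zero, one_mul, mul_one] at this
  exact (hS ▸ AddSubgroup.mem_top b : b ∈ S)

omit hgen hspan

/-- The Steinberg relations. -/
def rels (hrow : D.RowComm) (hcol : D.ColComm) (hK : ∀ a b, D.K a b) : Rels F 3 G where
  x := D.x
  add i j hij := D.add_x i j hij
  comm i j k l hij hkl hil hjk t u := by
    by_cases hik : k = i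
    · subst hik
      by_cases hjl : j = l
      · subst hjl; rw [← D.add_x _ _ hij, add_comm, D.add_x _ _ hij]
      obtain ⟨π, rfl, rfl, rfl⟩ := exists_perm k j l hij hjl hil
      obtain ⟨g, hg⟩ := D.good π
      rw [← hg 0 1 (by decide), ← hg 0 2 (by decide)]
      exact ((hrow t u).map (MulAut.conj g).toMonoidHom).eq
    · have hjl : j = l := by revert hij hkl hil hjk hik; revert i j k l; decide
      subst hjl
      obtain ⟨π, rfl, rfl, rfl⟩ := exists_perm k i j hik hij hkl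
      obtain ⟨g, hg⟩ := D.good π
      rw [← hg 1 2 (by decide), ← hg 0 2 (by decide)]
      exact ((hcol t u).map (MulAut.conj g).toMonoidHom).eq
  chain i j l hij hjl hil t u := by
    obtain ⟨π, rfl, rfl, rfl⟩ := exists_perm i j l hij hjl hil
    obtain ⟨g, hg⟩ := D.good π
    rw [← hg 0 1 (by decide), ← hg 1 2 (by decide), ← hg 0 2 (by decide)]
    calc g * D.x 0 1 t * g⁻¹ * (g * D.x 1 2 u * g⁻¹) = g * (D.x 0 1 t * D.x 1 2 u) * g⁻¹ := by group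
      _ = g * (D.x 0 2 (t * u) * D.x 1 2 u * D.x 0 1 t) * g⁻¹ := by rw [hK t u]
      _ = _ := by group

/-- The word for the involution. -/
def sWord : G := D.x 0 1 1 * D.x 1 0 (-1) * D.x 0 1 1 * (D.x 1 2 1 * D.x 2 1 (-1) * D.x 1 2 1) *
  (D.x 1 2 1 * D.x 2 1 (-1) * D.x 1 2 1)

theorem h_acts (i j : Fin 3) (hij : i ≠ j) : ∃ χ, D.Acts D.h i j χ := by
  have hsi : D.s⁻¹ = D.s := inv_eq_of_mul_eq_one_left D.s2
  have hs : ∀ {i j i' j' : Fin 3}, (∀ a, D.s * D.x i j a * D.s⁻¹ = D.x i' j' a) →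
      ∀ {χ : F}, χ ≠ 0 → D.Acts D.h i j χ → D.Acts D.h i' j' χ⁻¹ := fun {i j i' j'} hk {χ} hχ h => by
    have h' := Acts.transport D hk (Acts.inv D h hχ)
    rwa [show D.s * D.h⁻¹ * D.s⁻¹ = (D.s * D.h * D.s⁻¹)⁻¹ by group, D.sh, inv_inv] at h'
  have h20 : D.Acts D.h 2 0 ((ω : F)⁻¹) := by
    have h := Acts.transport D (k := D.w * D.w) (i' := 2) (j' := 0) (fun a => by rw [x20, x01]; group) D.h1_01
    rwa [h1, show D.w * D.w * (D.w * D.h * D.w⁻¹) * (D.w * D.w)⁻¹ =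
      D.w * (D.w * (D.w * D.h * D.w⁻¹) * D.w⁻¹) * D.w⁻¹ by group, D.w_conj_three] at h
  fin_cases i <;> fin_cases j <;> simp at hij
  · exact ⟨_, D.h_01⟩
  · exact ⟨_, D.h_02⟩
  · exact ⟨_, hs (fun a => D.s_conj_x 0 1 (by decide) a) (pow_ne_zero 2 (ω_ne (ω := ω))) D.h_01⟩
  · exact ⟨_, D.h_12⟩
  · exact ⟨_, h20⟩
  · exact ⟨_, hs (fun a => by rw [D.s_conj_x 2 0 (by decide)]; rfl) (inv_ne_zero (ω_ne (ω := ω))) h20⟩

theorem gen_eq_top (hgenG : Subgroup.closure ({D.ψ 1, D.h, D.w, D.s} : Set G) = ⊤) (hsW : D.s = D.sWord) :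
    Subgroup.closure {g : G | ∃ i j, i ≠ j ∧ ∃ t, g = D.x i j t} = ⊤ := by
  set N := Subgroup.closure {g : G | ∃ i j, i ≠ j ∧ ∃ t, g = D.x i j t} with hN
  have hx : ∀ i j, i ≠ j → ∀ t, D.x i j t ∈ N := fun i j hij t => Subgroup.subset_closure ⟨i, j, hij, t, rfl⟩
  have hs : D.s ∈ N := by
    rw [hsW]
    refine mul_mem (mul_mem (mul_mem (mul_mem ?_ ?_) ?_) ?_) ?_
    any_goals exact hx _ _ (by decide) _
    all_goals exact mul_mem (mul_mem (hx _ _ (by decide) _) (hx _ _ (by decide) _)) (hx _ _ (by decide) _)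
  have hwN : ∀ z ∈ N, D.w * z * D.w⁻¹ ∈ N := fun z => conj_mem_of_closure D.w (by
    rintro _ ⟨i, j, hij, t, rfl⟩
    rw [D.w_conj_x i j hij]
    exact hx _ _ (fun e => hij (add_right_cancel e)) _)
  have hhN : ∀ z ∈ N, D.h * z * D.h⁻¹ ∈ N := fun z => conj_mem_of_closure D.h (by
    rintro _ ⟨i, j, hij, t, rfl⟩
    obtain ⟨χ, hχ⟩ := D.h_acts i j hij
    rw [hχ]; exact hx _ _ hij _)
  have hw : D.w ∈ N := by
    have h1 : D.s * (D.w * D.s⁻¹ * D.w⁻¹) ∈ N := mul_mem hs (hwN _ (inv_mem hs))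
    rw [show D.s * (D.w * D.s⁻¹ * D.w⁻¹) = D.s * D.w * D.s⁻¹ * D.w⁻¹ by group, D.sw] at h1
    have h2 : D.w⁻¹ * D.w⁻¹ = D.w := by
      rw [← mul_inv_rev, inv_eq_of_mul_eq_one_left]
      rw [← mul_assoc, D.w3]
    rwa [h2] at h1
  have hh : D.h ∈ N := by
    have h2 : D.h⁻¹ * D.h⁻¹ ∈ N := by
      have h1 : D.s * (D.h * D.s⁻¹ * D.h⁻¹) ∈ N := mul_mem hs (hhN _ (inv_mem hs))
      rwa [show D.s * (D.h * D.s⁻¹ * D.h⁻¹) = D.s * D.h * D.s⁻¹ * D.h⁻¹ by group, D.sh] at h1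
    have c1 : D.h * (D.w * D.h * D.w⁻¹) = D.h * D.w * D.h⁻¹ * (D.h * D.h) * D.w⁻¹ := by group
    have m1 : D.h * (D.w * D.h * D.w⁻¹) ∈ N := by
      rw [c1]
      refine mul_mem (mul_mem (hhN _ hw) ?_) (inv_mem hw)
      simpa using inv_mem h2
    have m2 : D.w * (D.w * D.h * D.w⁻¹) * D.w⁻¹ ∈ N := by
      have := inv_mem m1
      rwa [inv_eq_of_mul_eq_one_right D.h3] at this
    have e : D.h = D.w⁻¹ * D.w⁻¹ * (D.w * (D.w * D.h * D.w⁻¹) * D.w⁻¹) * (D.w * D.w) := by group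
    rw [e]
    exact mul_mem (mul_mem (mul_mem (inv_mem hw) (inv_mem hw)) m2) (mul_mem hw hw)
  rw [eq_top_iff, ← hgenG, Subgroup.closure_le]
  rintro z (rfl | rfl | rfl | rfl)
  · exact hx 0 1 (by decide) 1
  exacts [hh, hw, hs]

/-- The order bound. -/
theorem card_le [Fintype F] (hrow : D.RowComm) (hcol : D.ColComm) (hK : ∀ a b, D.K a b)
    (hgenG : Subgroup.closure ({D.ψ 1, D.h, D.w, D.s} : Set G) = ⊤) (hsW : D.s = D.sWord) :
    Finite G ∧ Nat.card G ≤ Nat.card (Matrix.SpecialLinearGroup (Fin 3) F) := by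
  let T : StN F 3 G :=
    { D.rels hrow hcol hK with
      rel := fun i j hij t u ht => by
        obtain ⟨k, hki, hkj⟩ : ∃ k : Fin 3, k ≠ i ∧ k ≠ j := by revert hij; revert i j; decide
        exact (D.rels hrow hcol hK).rel_of_third hij hki hkj t u ht
      gen := D.gen_eq_top hgenG hsW }
  obtain ⟨hf, hle⟩ := StN.card_bound 2 T
  exact ⟨hf, hle.trans (le_of_eq (by rw [GL.card_SL_prod]))⟩

end Data

end Cfsg.Agent.SL3Presentation
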