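/-
Two non-zero cubes of a finite field with a cube as their sum, and the additive span of the cubes.
-/
import Cfsg.Agent.Lib.SL2Presentation.Model

set_option autoImplicit false
set_option linter.unusedSectionVars false

namespace Cfsg.Agent.SL3Presentation

open scoped Classical

variable {F : Type*} [Field F] [Fintype F]

variable (F) in
/-- The cubes among the units. -/
def cubes : Subgroup Fˣ := (powMonoidHom 3 : Fˣ →* Fˣ).range

/-- The class of a unit modulo cubes, `none` for zero. -/
noncomputable def cl (x : F) : Option (Fˣ ⧸ cubes F) :=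
  if h : x = 0 then none else some (QuotientGroup.mk (Units.mk0 x h))

theorem cl_mul {x y : F} {a b : Fˣ ⧸ cubes F} (hx : cl x = some a) (hy : cl y = some b) :
    cl (x * y) = some (a * b) := by
  unfold cl at *
  split_ifs at hx hy with h1 h2
  simp only [Option.some.injEq] at hx hy
  rw [dif_neg (mul_ne_zero h1 h2), ← hx, ← hy, ← QuotientGroup.mk_mul]
  congr 1
  congr 1
  exact Units.ext rfl

theorem cl_ne {x : F} {a : Fˣ ⧸ cubes F} (hx : cl x = some a) : x ≠ 0 := fun h => by
  simp [cl, h] at hx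

theorem cl_inv {x : F} {a : Fˣ ⧸ cubes F} (hx : cl x = some a) : cl x⁻¹ = some a⁻¹ := by
  have h0 := cl_ne hx
  unfold cl at *
  rw [dif_neg h0] at hx
  rw [dif_neg (inv_ne_zero h0), ← Option.some.inj hx, ← QuotientGroup.mk_inv]
  congr 2
  exact Units.ext (by simp)

theorem cl_neg {x : F} {a : Fˣ ⧸ cubes F} (hx : cl x = some a) : cl (-x) = some a := by
  have h1 : cl (-1 : F) = some 1 := by
    rw [cl, dif_neg (neg_ne_zero.2 one_ne_zero)]
    congr 1
    rw [QuotientGroup.eq_one_iff]
    exact ⟨-1, Units.ext (by simp [Odd.neg_one_pow (by decide : Odd 3)])⟩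
  have := cl_mul h1 hx
  rwa [neg_one_mul, one_mul] at this

/-- The elements of class `i` whose difference from `t` has class `j`. -/
noncomputable def M (i j : Fˣ ⧸ cubes F) (t : F) : ℕ :=
  (Finset.univ.filter fun s : F => cl s = some i ∧ cl (t - s) = some j).card

theorem M_symm (i j : Fˣ ⧸ cubes F) (t : F) : M i j t = M j i t := by
  refine Finset.card_bij' (fun s _ => t - s) (fun s _ => t - s) ?_ ?_ (fun s _ => sub_sub_self t s)
    (fun s _ => sub_sub_self t s) <;>
  · intro s hs
    simp only [Finset.mem_filter, Finset.mem_univ, true_and, sub_sub_self] at hs ⊢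
    exact hs.symm

theorem M_scale (i j : Fˣ ⧸ cubes F) {u : F} {a : Fˣ ⧸ cubes F} (hu : cl u = some a) (t : F) :
    M i j t = M (a * i) (a * j) (u * t) := by
  have h0 := cl_ne hu
  refine Finset.card_bij' (fun s _ => u * s) (fun s _ => u⁻¹ * s) ?_ ?_ (fun s _ => inv_mul_cancel_left₀ h0 s)
    (fun s _ => mul_inv_cancel_left₀ h0 s) <;> intro s hs <;>
    simp only [Finset.mem_filter, Finset.mem_univ, true_and] at hs ⊢
  · exact ⟨cl_mul hu hs.1, by rw [← mul_sub]; exact cl_mul hu hs.2⟩
  · refine ⟨?_, ?_⟩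
    · rw [cl_mul (cl_inv hu) hs.1, inv_mul_cancel_left]
    · rw [show t - u⁻¹ * s = u⁻¹ * (u * t - s) by field_simp, cl_mul (cl_inv hu) hs.2, inv_mul_cancel_left]

theorem M_class (i j : Fˣ ⧸ cubes F) {t t' : F} {a : Fˣ ⧸ cubes F} (ht : cl t = some a) (ht' : cl t' = some a) :
    M i j t = M i j t' := by
  have hu : cl (t' / t) = some 1 := by
    rw [div_eq_mul_inv, cl_mul ht' (cl_inv ht), mul_inv_cancel]
  rw [M_scale i j hu t, one_mul, one_mul, div_mul_cancel₀ _ (cl_ne ht)]

theorem M_swap {i j l : Fˣ ⧸ cubes F} {t t' : F} (ht : cl t = some l) (ht' : cl t' = some i) :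
    M i j t = M l j t' := by
  refine Finset.card_bij' (fun s _ => t' * t / s) (fun s _ => t' * t / s) ?_ ?_ ?_ ?_ <;> intro s hs <;>
    simp only [Finset.mem_filter, Finset.mem_univ, true_and] at hs ⊢
  · refine ⟨?_, ?_⟩
    · rw [div_eq_mul_inv, cl_mul (cl_mul ht' ht) (cl_inv hs.1), mul_comm i l, mul_inv_cancel_right]
    · have h0 := cl_ne hs.1
      rw [show t' - t' * t / s = -(t' * (t - s) * s⁻¹) by field_simp; ring,
        cl_neg (cl_mul (cl_mul ht' hs.2) (cl_inv hs.1)), mul_comm i j, mul_inv_cancel_right]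
  · refine ⟨?_, ?_⟩
    · rw [div_eq_mul_inv, cl_mul (cl_mul ht' ht) (cl_inv hs.1)]
      congr 1
      rw [mul_inv_cancel_right]
    · have h0 := cl_ne hs.1
      have h1 := cl_ne ht
      rw [show t - t' * t / s = -(t * (t' - s) * s⁻¹) by field_simp; ring,
        cl_neg (cl_mul (cl_mul ht hs.2) (cl_inv hs.1)), mul_comm l j, mul_inv_cancel_right]
  · have := cl_ne hs.1; have := cl_ne ht; have := cl_ne ht'; field_simp
  · have := cl_ne hs.1; have := cl_ne ht; have := cl_ne ht'; field_simp

theorem cl_of_pow (ω : Fˣ) (hω : ∀ x, x ∈ Subgroup.zpowers ω) {x : F} (hx : cl x = some 1) :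
    ∃ k : ℕ, (ω : F) ^ (3 * k) = x := by
  have h0 := cl_ne hx
  rw [cl, dif_neg h0, Option.some.injEq, QuotientGroup.eq_one_iff] at hx
  obtain ⟨y, hy⟩ := hx
  obtain ⟨n, hn⟩ := (isOfFinOrder_of_finite ω).mem_powers_iff_mem_zpowers.2 (hω y)
  refine ⟨n, ?_⟩
  have := congrArg Units.val hy
  rw [powMonoidHom_apply, ← hn] at this
  simpa [mul_comm 3 n, pow_mul] using this

/-- Two cubes with a cube as their sum. -/
theorem exists_cube_triple (ω : Fˣ) (hω : ∀ x, x ∈ Subgroup.zpowers ω) (h2 : (2 : F) ≠ 0)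
    (hq : ¬ 3 ∣ Fintype.card F - 1 ∨ 16 < Fintype.card F) :
    ∃ a b : ℕ, ∃ c : ℕ, (ω : F) ^ (3 * a) + (ω : F) ^ (3 * b) = (ω : F) ^ (3 * c) := by
  suffices h : ∃ s : F, cl s = some 1 ∧ cl (1 - s) = some 1 by
    obtain ⟨s, hs, hs'⟩ := h
    obtain ⟨a, ha⟩ := cl_of_pow ω hω hs
    obtain ⟨b, hb⟩ := cl_of_pow ω hω hs'
    exact ⟨a, b, 0, by rw [ha, hb]; simp⟩
  have hcardU : Nat.card Fˣ = Fintype.card F - 1 := by rw [Nat.card_units, Nat.card_eq_fintype_card]
  by_cases h3 : 3 ∣ Fintype.card F - 1
  swap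
  · have htop : cubes F = ⊤ := by
      have hco : (Nat.card Fˣ).Coprime 3 := by
        rw [hcardU]; exact ((Nat.prime_three.coprime_iff_not_dvd).2 h3).symm
      exact eq_top_iff.2 fun x _ => ⟨(powCoprime hco).symm x, (powCoprime hco).apply_symm_apply x⟩
    have hall : ∀ x : F, x ≠ 0 → cl x = some 1 := fun x hx => by
      rw [cl, dif_neg hx, Option.some.injEq, QuotientGroup.eq_one_iff, htop]; exact Subgroup.mem_top _
    refine ⟨-1, hall _ (neg_ne_zero.2 one_ne_zero), hall _ ?_⟩
    rw [sub_neg_eq_add, one_add_one_eq_two]; exact h2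
  have hq16 : 16 < Fintype.card F := hq.resolve_left (not_not.2 h3)
  by_contra hcon
  -- the cubes have index three
  have hker : Nat.card (powMonoidHom 3 : Fˣ →* Fˣ).ker = 3 := by
    rw [IsCyclic.card_powMonoidHom_ker, hcardU, Nat.gcd_comm, Nat.gcd_eq_left h3]
  have hidx : Nat.card (Fˣ ⧸ cubes F) = 3 := by
    have h := (cubes F).index_mul_card
    rw [show Nat.card (cubes F) = (powMonoidHom 3 : Fˣ →* Fˣ).ker.index from (Subgroup.index_ker _).symm] at h
    have h' := (powMonoidHom 3 : Fˣ →* Fˣ).ker.index_mul_card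
    rw [hker, ← h, mul_comm (cubes F).index] at h'
    have hpos : 0 < (powMonoidHom 3 : Fˣ →* Fˣ).ker.index :=
      Nat.pos_of_ne_zero Subgroup.index_ne_zero_of_finite
    exact (Nat.eq_of_mul_eq_mul_left hpos h').symm
  obtain ⟨g, hg⟩ : ∃ g : Fˣ ⧸ cubes F, g ≠ 1 := by
    have : Nontrivial (Fˣ ⧸ cubes F) := Finite.one_lt_card_iff_nontrivial.1 (by omega)
    exact exists_ne 1
  have h13 : orderOf g = 3 := by
    have := orderOf_dvd_natCard g
    rw [hidx] at this
    exact ((Nat.dvd_prime Nat.prime_three).1 this).resolve_left fun e => hg (orderOf_eq_one_iff.1 e)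
  have hg3 : g * (g * g) = 1 := by
    have := pow_orderOf_eq_one g
    rwa [h13, pow_three] at this
  have hg2 : g * g ≠ 1 := fun e => hg (by rwa [e, mul_one] at hg3)
  have hne : g * g ≠ g := fun e => hg (mul_left_cancel (e.trans (mul_one g).symm))
  have huniv : (Finset.univ : Finset (Fˣ ⧸ cubes F)) = {1, g, g * g} := by
    refine (Finset.eq_univ_of_card _ ?_).symm
    rw [← Nat.card_eq_fintype_card, hidx]
    exact Finset.card_eq_three.2 ⟨_, _, _, hg.symm, hg2.symm, hne.symm, rfl⟩
  have rep : ∀ i : Fˣ ⧸ cubes F, ∃ t : F, cl t = some i := fun i => by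
    obtain ⟨u, rfl⟩ := QuotientGroup.mk_surjective i
    exact ⟨u, by rw [cl, dif_neg u.ne_zero]; simp⟩
  choose r hr using rep
  set m : (Fˣ ⧸ cubes F) → (Fˣ ⧸ cubes F) → (Fˣ ⧸ cubes F) → ℕ := fun i j l => M i j (r l) with hm
  have hM : ∀ i j l t, cl t = some l → M i j t = m i j l := fun i j l t ht => M_class i j ht (hr l)
  have msymm : ∀ i j l, m i j l = m j i l := fun i j l => M_symm i j _
  have mswap : ∀ i j l, m i j l = m l j i := fun i j l => M_swap (hr l) (hr i)
  have mscale : ∀ a i j l, m i j l = m (a * i) (a * j) (a * l) := fun a i j l => by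
    rw [hm]
    simp only
    rw [M_scale i j (hr a) (r l), hM _ _ (a * l) _ (cl_mul (hr a) (hr l))]
  have hA : m 1 1 1 = 0 := by
    rw [hm]
    refine Finset.card_eq_zero.2 (Finset.filter_eq_empty_iff.2 fun s _ hs => hcon ?_)
    refine ⟨s / r 1, by rw [div_eq_mul_inv, cl_mul hs.1 (cl_inv (hr 1)), inv_one, mul_one],
      ?_⟩
    rw [show 1 - s / r 1 = (r 1 - s) / r 1 by have := cl_ne (hr 1); field_simp,
      div_eq_mul_inv, cl_mul hs.2 (cl_inv (hr 1)), inv_one, mul_one]
  set k := (Finset.univ.filter fun s : F => cl s = some (1 : Fˣ ⧸ cubes F)).card with hk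
  have hsum : ∀ (l : Fˣ ⧸ cubes F), ∑ j, m 1 j l + (if l = 1 then 1 else 0) = k := by
    intro l
    rw [hk, ← Finset.card_filter_add_card_filter_not (s := Finset.univ.filter fun s : F => cl s = some 1)
      (fun s => r l - s ≠ 0)]
    congr 1
    · rw [Finset.filter_filter, Finset.card_eq_sum_card_fiberwise (t := Finset.univ)
        (f := fun s => (cl (r l - s)).getD 1) (fun _ _ => Finset.mem_univ _)]
      refine Finset.sum_congr rfl fun j _ => ?_
      rw [Finset.filter_filter, hm]
      refine congrArg Finset.card (Finset.filter_congr fun s _ => ?_)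
      constructor
      · rintro ⟨h1, h2⟩; exact ⟨⟨h1, cl_ne h2⟩, by rw [h2]; rfl⟩
      · rintro ⟨⟨h1, h2⟩, h3⟩
        refine ⟨h1, ?_⟩
        rw [cl, dif_neg h2] at h3 ⊢
        rw [← h3]; rfl
    · rw [Finset.filter_filter]
      split_ifs with hl
      · refine (Finset.card_eq_one.2 ⟨r l, ?_⟩).symm
        ext s
        simp only [Finset.mem_filter, Finset.mem_univ, true_and, not_not, sub_eq_zero, Finset.mem_singleton]
        exact ⟨fun h => h.2.symm, fun h => ⟨by rw [h, hr, hl], h.symm⟩⟩
      · refine (Finset.card_eq_zero.2 (Finset.filter_eq_empty_iff.2 fun s _ hs => ?_)).symm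
        rw [not_not, sub_eq_zero] at hs
        exact hl (Option.some.inj ((hr l).symm.trans (hs.2 ▸ hs.1)))
  -- the parameters
  set B := m 1 1 g with hB
  set C := m 1 1 (g * g) with hC
  set D := m 1 g (g * g) with hD
  have eB : m 1 (g * g) 1 = C := by rw [msymm, mswap]
  have eB' : m 1 g 1 = B := by rw [msymm, mswap]
  have e1 : B + C + 1 = k := by
    have h := hsum 1
    rw [huniv, Finset.sum_insert (by simp [hg.symm, hg2.symm]), Finset.sum_pair hne.symm, hA, eB, eB', if_pos rfl] at h
    omega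
  have eg1 : m 1 g g = C := by
    rw [mscale (g * g), mul_one, show g * g * g = 1 by rw [mul_assoc]; exact hg3, msymm, mswap]
    exact eB
  have eg2 : m 1 (g * g) g = D := by rw [msymm, mswap, msymm]
  have e2 : B + C + D = k := by
    have h := hsum g
    rw [huniv, Finset.sum_insert (by simp [hg.symm, hg2.symm]), Finset.sum_pair hne.symm, eg1, eg2, if_neg hg] at h
    omega
  have hD1 : D = 1 := by omega
  -- associativity
  have key : k + C * B = B * B + C * C + D * D := by
    let f : F → ℕ := fun s => M 1 1 s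
    let S := Finset.univ.filter fun x : F × F × F =>
      cl x.1 = some (1 : Fˣ ⧸ cubes F) ∧ cl x.2.1 = some (1 : Fˣ ⧸ cubes F) ∧
        cl x.2.2 = some g ∧ x.1 + x.2.1 + x.2.2 = r g
    have l1 : S.card = ∑ s, if cl (r g - s) = some g then f s else 0 := by
      rw [Finset.card_eq_sum_card_fiberwise (t := Finset.univ) (f := fun x : F × F × F => x.1 + x.2.1)
        (fun _ _ => Finset.mem_univ _)]
      refine Finset.sum_congr rfl fun s _ => ?_
      rw [Finset.filter_filter]
      split_ifs with h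
      · refine Finset.card_bij' (fun x _ => x.1) (fun a _ => (a, s - a, r g - s)) ?_ ?_ ?_ ?_
        · intro x hx
          simp only [Finset.mem_filter, Finset.mem_univ, true_and] at hx ⊢
          exact ⟨hx.1.1, by rw [← hx.2, add_sub_cancel_left]; exact hx.1.2.1⟩
        · intro a ha
          simp only [Finset.mem_filter, Finset.mem_univ, true_and] at ha ⊢
          exact ⟨⟨ha.1, ha.2, h, by ring⟩, by ring⟩
        · intro x hx
          simp only [Finset.mem_filter, Finset.mem_univ, true_and] at hx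
          refine Prod.ext rfl (Prod.ext ?_ ?_) <;> simp only
          · rw [← hx.2, add_sub_cancel_left]
          · rw [← hx.2, ← hx.1.2.2.2, add_sub_cancel_left]
        · intro a _; rfl
      · refine Finset.card_eq_zero.2 (Finset.filter_eq_empty_iff.2 fun x _ hx => h ?_)
        rw [← hx.2, ← hx.1.2.2.2, add_sub_cancel_left]
        exact hx.1.2.2.1
    have l2 : S.card = ∑ s, if cl (r g - s) = some (1 : Fˣ ⧸ cubes F) then M 1 g s else 0 := by
      rw [Finset.card_eq_sum_card_fiberwise (t := Finset.univ) (f := fun x : F × F × F => x.2.1 + x.2.2)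
        (fun _ _ => Finset.mem_univ _)]
      refine Finset.sum_congr rfl fun s _ => ?_
      rw [Finset.filter_filter]
      split_ifs with h
      · refine Finset.card_bij' (fun x _ => x.2.1) (fun a _ => (r g - s, a, s - a)) ?_ ?_ ?_ ?_
        · intro x hx
          simp only [Finset.mem_filter, Finset.mem_univ, true_and] at hx ⊢
          exact ⟨hx.1.2.1, by rw [← hx.2, add_sub_cancel_left]; exact hx.1.2.2.1⟩
        · intro a ha
          simp only [Finset.mem_filter, Finset.mem_univ, true_and] at ha ⊢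
          exact ⟨⟨h, ha.1, ha.2, by ring⟩, by ring⟩
        · intro x hx
          simp only [Finset.mem_filter, Finset.mem_univ, true_and] at hx
          refine Prod.ext ?_ (Prod.ext rfl ?_) <;> simp only
          · rw [← hx.2, ← hx.1.2.2.2]; ring
          · rw [← hx.2, add_sub_cancel_left]
        · intro a _; rfl
      · refine Finset.card_eq_zero.2 (Finset.filter_eq_empty_iff.2 fun x _ hx => h ?_)
        rw [← hx.2, ← hx.1.2.2.2, show x.1 + x.2.1 + x.2.2 - (x.2.1 + x.2.2) = x.1 by ring]
        exact hx.1.1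
    have split : ∀ (j : Fˣ ⧸ cubes F) (φ : F → ℕ) (ψ' : Fˣ ⧸ cubes F → ℕ),
        (∀ s i, cl s = some i → φ s = ψ' i) →
        (∑ s, if cl (r g - s) = some j then φ s else 0) =
          (if g = j then φ 0 else 0) + ∑ i, m i j g * ψ' i := by
      intro j φ ψ' hφ
      rw [← Finset.add_sum_erase _ _ (Finset.mem_univ (0 : F)), sub_zero, hr]
      simp only [Option.some.injEq]
      congr 1
      rw [← Finset.sum_fiberwise (Finset.univ.erase (0 : F)) (fun s => (cl s).getD 1)]
      refine Finset.sum_congr rfl fun i _ => ?_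
      rw [← Finset.sum_filter, Finset.filter_filter, Finset.sum_congr rfl (g := fun _ => ψ' i) (fun s hs => ?_),
        Finset.sum_const, smul_eq_mul]
      · congr 1
        rw [hm]
        refine congrArg Finset.card ?_
        ext s
        simp only [Finset.mem_filter, Finset.mem_erase, Finset.mem_univ, true_and, and_true, ne_eq]
        constructor
        · rintro ⟨hs0, h1, h2⟩
          refine ⟨?_, h2⟩
          rw [cl, dif_neg hs0] at h1 ⊢
          rw [← h1]; rfl
        · rintro ⟨h1, h2⟩
          exact ⟨cl_ne h1, by rw [h1]; rfl, h2⟩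
      · simp only [Finset.mem_filter, Finset.mem_erase, Finset.mem_univ, true_and, and_true, ne_eq] at hs
        refine hφ s i ?_
        have h1 := hs.2.1
        rw [cl, dif_neg hs.1] at h1 ⊢
        exact congrArg some h1
    rw [split g f (fun i => m 1 1 i) (fun s i hs => hM 1 1 i s hs)] at l1
    rw [split 1 (fun s => M 1 g s) (fun i => m 1 g i) (fun s i hs => hM 1 g i s hs)] at l2
    have hf0 : f 0 = k := by
      show M 1 1 0 = k
      refine congrArg Finset.card (Finset.filter_congr fun s _ => ?_)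
      rw [zero_sub]
      exact ⟨fun h => h.1, fun h => ⟨h, cl_neg h⟩⟩
    rw [if_pos rfl, hf0, huniv, Finset.sum_insert (by simp [hg.symm, hg2.symm]), Finset.sum_pair hne.symm] at l1
    rw [if_neg hg, huniv, Finset.sum_insert (by simp [hg.symm, hg2.symm]), Finset.sum_pair hne.symm] at l2
    have q1 : m g g g = 0 := by rw [← hA, mscale g 1 1 1, mul_one]
    have q2 : m (g * g) g g = B := by
      rw [mscale (g * g), show g * g * g = 1 by rw [mul_assoc]; exact hg3,
        show g * g * (g * g) = g by rw [mul_assoc, hg3, mul_one], msymm, mswap, msymm, mswap]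
    have q3 : m g 1 g = C := by rw [msymm]; exact eg1
    have q4 : m (g * g) 1 g = D := by rw [msymm]; exact eg2
    rw [hA, q1, q2, ← hC] at l1
    rw [eB', eg1, q3, q4, ← hD, ← hB] at l2
    simp only [mul_zero, zero_mul, zero_add, add_zero] at l1
    rw [l1] at l2
    rw [mul_comm C B]
    linarith
  rw [hD1] at key
  have hk5 : k ≤ 5 := by nlinarith [sq_nonneg ((B : ℤ) - C)]
  -- `q = 3 k + 1`
  have hq3 : Fintype.card F = 3 * k + 1 := by
    have h1 : ∀ i : Fˣ ⧸ cubes F, (Finset.univ.filter fun s : F => cl s = some i).card = k := fun i => by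
      rw [hk]
      refine Finset.card_bij' (fun s _ => s / r i) (fun s _ => s * r i) ?_ ?_
        (fun s _ => div_mul_cancel₀ s (cl_ne (hr i))) (fun s _ => mul_div_cancel_right₀ s (cl_ne (hr i))) <;>
      intro s hs <;> simp only [Finset.mem_filter, Finset.mem_univ, true_and] at hs ⊢
      · rw [div_eq_mul_inv, cl_mul hs (cl_inv (hr i)), mul_inv_cancel]
      · rw [cl_mul hs (hr i), one_mul]
    have h2 : (Finset.univ : Finset F).card = ∑ o : Option (Fˣ ⧸ cubes F),
        (Finset.univ.filter fun s : F => cl s = o).card :=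
      Finset.card_eq_sum_card_fiberwise (fun _ _ => Finset.mem_univ _)
    rw [Fintype.sum_option, Finset.sum_congr rfl (fun i _ => h1 i), Finset.sum_const, Finset.card_univ,
      Finset.card_univ, ← Nat.card_eq_fintype_card (α := Fˣ ⧸ cubes F), hidx, smul_eq_mul,
      Finset.card_eq_one.2 ⟨(0 : F), by ext s; simp [cl]⟩] at h2
    omega
  omega

/-- The cubes span the field, unless it has four elements. -/
theorem span_cubes (ω : Fˣ) (hω : orderOf ω = Fintype.card F - 1) (h4 : Fintype.card F ≠ 4)
    (S : AddSubgroup F) (hS : ∀ k : ℕ, (ω : F) ^ (3 * k) ∈ S) : S = ⊤ := by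
  obtain ⟨p, hc⟩ := CharP.exists F
  haveI := hc
  haveI : Fact p.Prime := ⟨CharP.char_is_prime F p⟩
  letI := ZMod.algebra F p
  have hsurj : Function.Surjective (Polynomial.aeval ((ω : F) ^ 3) : Polynomial (ZMod p) → F) := by
    refine SL2Presentation.aeval_surjective _ fun j hj hle heq => ?_
    have h2 : 2 ≤ p ^ j := (Nat.le_self_pow (by omega) p).trans' (Fact.out : p.Prime).two_le
    obtain ⟨r, hr⟩ : ∃ r, p ^ j = r + 1 := ⟨p ^ j - 1, by omega⟩
    have h1 : ω ^ (3 * r) = 1 := by
      apply Units.ext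
      rw [Units.val_pow_eq_pow_val, Units.val_one, pow_mul]
      apply mul_left_cancel₀ (pow_ne_zero 3 ω.ne_zero)
      rw [mul_one, ← pow_succ', ← hr]
      exact heq
    have hdvd := orderOf_dvd_of_pow_eq_one h1
    rw [hω] at hdvd
    rw [hr] at hle
    have hr1 : 1 ≤ r := by omega
    rcases Nat.lt_or_ge r 2 with h7 | h7
    · obtain rfl : r = 1 := by omega
      have hle' := Nat.le_of_dvd (by omega) hdvd
      norm_num at hle hle' hdvd
      omega
    · have hle' := Nat.le_of_dvd (by omega) hdvd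
      have h4' : (r + 1) ^ 2 = r * r + 2 * r + 1 := by ring
      have := Nat.mul_le_mul_right r h7
      omega
  refine eq_top_iff.2 fun z _ => ?_
  obtain ⟨P, rfl⟩ := hsurj z
  rw [Polynomial.aeval_eq_sum_range]
  refine sum_mem fun i _ => ?_
  rw [← ZMod.natCast_zmod_val (P.coeff i), Nat.cast_smul_eq_nsmul, ← pow_mul]
  exact nsmul_mem (hS i) _

end Cfsg.Agent.SL3Presentation
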