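/-
Presentations of `SL₃(q)` on four generators with fourteen relations.
-/
import Cfsg.Agent.Lib.SL3Presentation.Core
import Cfsg.Agent.Lib.SL3Presentation.Cubes
import Cfsg.Agent.Lib.SL2Presentation.Even

set_option autoImplicit false
set_option linter.unusedSectionVars false

open Polynomial Matrix

namespace Cfsg.Agent.SL3Presentation

open Cfsg.Agent.SL2Presentation
open scoped IsMulCommutative Classical

variable {F : Type*} [Field F] [Fintype F] {p : ℕ} [Fact p.Prime] [Algebra (ZMod p) F]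

local notation "SL3" => Matrix.SpecialLinearGroup (Fin 3) F
local notation "T" => Matrix.SpecialLinearGroup.transvection

/-- The free group on `u, h, w, s`. -/
abbrev FG4 : Type := FreeGroup (Fin 4)

/-- A root field generated by `u` and `h` from relations `R0`. -/
def IsPack (ω : Fˣ) (p : ℕ) [Fact p.Prime] [Algebra (ZMod p) F] (R0 : Finset FG) : Prop :=
  (∀ r ∈ R0, model ω r = 1) ∧
  ∀ {G : Type} [Group G] (φ : FG →* G), (∀ r ∈ R0, φ r = 1) →
    ∃ ψ : F → G, (∀ x y, ψ (x + y) = ψ x * ψ y) ∧ ψ 1 = φ gU ∧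
      (∀ x, φ gH * ψ x * (φ gH)⁻¹ = ψ ((ω : F) ^ 2 * x)) ∧
      ∀ P : (ZMod p)[X], ψ (aeval ((ω : F) ^ 2) P) = polyWord (φ gH) (φ gU) 1 P

theorem pack_odd (ω : Fˣ) (hω : orderOf ω = Fintype.card F - 1) (hp : p ≠ 2) :
    ∃ R0, R0.card ≤ 5 ∧ IsPack ω p R0 := by
  obtain ⟨R0, hcard, hm, hR⟩ := exists_package (p := p) ω hω hp
  refine ⟨insert (gH ^ (Fintype.card F - 1)) R0, (Finset.card_insert_le _ _).trans (by omega), ?_, ?_⟩
  · intro r hr
    rcases Finset.mem_insert.1 hr with rfl | hr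
    · rw [map_pow, model_H, ← map_pow, ← hω, pow_orderOf_eq_one, map_one]
    · exact hm r hr
  · intro G _ φ hφ
    exact hR φ (fun r hr => hφ r (Finset.mem_insert_of_mem hr))
      (by rw [← map_pow]; exact hφ _ (Finset.mem_insert_self _ _))

theorem pack_prime (ω : Fˣ) (hω : orderOf ω = Fintype.card F - 1) (hqp : Fintype.card F = p) :
    ∃ R0, R0.card ≤ 2 ∧ IsPack ω p R0 := by
  set lam : F := (ω : F) ^ 2 with hlam
  have hsurj := aeval_sq_surjective (p := p) ω hω
  obtain ⟨c, hc⟩ : ∃ c : ZMod p, algebraMap (ZMod p) F c = lam :=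
    ((Fintype.bijective_iff_injective_and_card _).mpr
      ⟨(algebraMap (ZMod p) F).injective, by rw [ZMod.card, hqp]⟩).2 lam
  set P0 : (ZMod p)[X] := X - C c with hP0
  refine ⟨{gU ^ p, polyWord gH gU 1 P0}, Finset.card_le_two, ?_, ?_⟩
  · simp only [Finset.mem_insert, Finset.mem_singleton]
    rintro r (rfl | rfl)
    · rw [map_pow, model_U, uL_pow_char]
    · rw [map_polyWord, model_H, model_U, polyWord_uL, pow_one, ← hlam, hP0, map_sub, aeval_X, aeval_C, hc,
        sub_self, uL_zero]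
  · intro G _ φ hφ
    set h := φ gH with hh
    set u := φ gU with hu
    have hup : u ^ p = 1 := by rw [hu, ← map_pow]; exact hφ _ (by simp)
    have hw : polyWord h u 1 P0 = 1 := by rw [hh, hu, ← map_polyWord]; exact hφ _ (by simp)
    set A := Subgroup.closure ({u} : Set G) with hA
    have huA : u ∈ A := Subgroup.subset_closure rfl
    have hcomm : ∀ x ∈ ({u} : Set G), ∀ y ∈ ({u} : Set G), x * y = y * x := by simp
    have := isMulCommutative_closure_of hcomm
    have hexp := exponent_closure hcomm (p := p) (by simp [hup])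
    have h1 : orb h u 1 ∈ A := by
      have hdeg : P0.natDegree = 1 := natDegree_X_sub_C c
      have hco : (P0.coeff 1).val = 1 := by simp [hP0, ZMod.val_one]
      simp only [polyWord, hdeg, List.range_succ, List.range_zero, List.nil_append, List.map_append,
        List.map_cons, List.map_nil, List.prod_append, List.prod_cons, List.prod_nil, one_mul,
        mul_one, hco, pow_one, Nat.cast_one, Nat.cast_zero, orb_zero] at hw
      rw [eq_inv_of_mul_eq_one_right hw]
      exact inv_mem (pow_mem huA _)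
    have hinv : ∀ x ∈ A, h * x * h⁻¹ ∈ A := by
      refine SL2Presentation.conj_invariant_closure h fun x hx => ?_
      rw [Set.mem_singleton_iff] at hx
      subst hx
      simpa [orb] using h1
    exact exists_psi A h u huA hexp hinv lam hsurj {P0} (by simpa using hw) fun P hP => by
      rw [Ideal.mem_span_singleton]
      refine (dvd_iff_isRoot).mpr ((algebraMap (ZMod p) F).injective ?_)
      rw [map_zero, ← aeval_algebraMap_apply_eq_algebraMap_eval, hc, hP]

theorem pack_even (ω : Fˣ) (hω : orderOf ω = Fintype.card F - 1) (hp : p = 2) (hq : 4 ≤ Fintype.card F) :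
    ∃ R0, R0.card ≤ 3 ∧ IsPack ω p R0 := by
  subst hp
  have hchar : CharP F 2 := (Algebra.charP_iff (ZMod 2) F 2).mp inferInstance
  set lam : F := (ω : F) ^ 2 with hlam
  have hsurj := aeval_sq_surjective (p := 2) ω hω
  obtain ⟨b, hb⟩ : ∃ b : ℕ, 1 + lam = lam ^ b := by
    have h0 : 1 + lam ≠ 0 := fun h => by
      have h1 : lam = 1 := by rw [← CharTwo.neg_eq (1 : F)]; exact eq_neg_of_add_eq_zero_right h
      have h2 : ω ^ 2 = 1 := Units.ext (by rw [Units.val_pow_eq_pow_val, ← hlam, h1, Units.val_one])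
      have := Nat.le_of_dvd (by norm_num) (orderOf_dvd_of_pow_eq_one h2)
      omega
    obtain ⟨y, hy⟩ := FiniteField.isSquare_of_char_two (ringChar.eq F 2) (1 + lam)
    have hy0 : y ≠ 0 := fun e => h0 (by rw [hy, e, zero_mul])
    have hmem : Units.mk0 y hy0 ∈ Subgroup.zpowers ω := by
      rw [Subgroup.eq_top_of_card_eq (Subgroup.zpowers ω)
        (by rw [Nat.card_zpowers, hω, Nat.card_eq_fintype_card, Fintype.card_units])]
      exact Subgroup.mem_top _
    obtain ⟨n, hn⟩ := (isOfFinOrder_of_finite ω).mem_powers_iff_mem_zpowers.2 hmem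
    refine ⟨n, ?_⟩
    have := congrArg Units.val hn
    simp only [Units.val_pow_eq_pow_val, Units.val_mk0] at this
    rw [hy, hlam, ← this, ← pow_mul, ← pow_add]
    congr 1
    omega
  set P := minpoly (ZMod 2) lam with hP
  refine ⟨{gU * gU, orb gH gU b * (gU * orb gH gU 1)⁻¹, polyWord gH gU 1 P}, Finset.card_le_three, ?_, ?_⟩
  · simp only [Finset.mem_insert, Finset.mem_singleton]
    rintro r (rfl | rfl | rfl)
    · rw [map_mul, model_U, ← pow_two, uL_pow_char (p := 2)]
    · have h1 := orb_model (F := F) ω 1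
      rw [Nat.cast_one, pow_one] at h1
      simp only [map_mul, map_inv, map_orb, model_H, model_U, orb_model, h1, ← hlam]
      rw [← uL_add, hb, mul_inv_cancel]
    · rw [map_polyWord, model_H, model_U, polyWord_uL, pow_one, ← hlam, hP, minpoly.aeval, uL_zero]
  · intro G _ φ hφ
    set h := φ gH with hh
    set u := φ gU with hu'
    have hu : u * u = 1 := by rw [hu', ← map_mul]; exact hφ _ (by simp)
    have htri : orb h u b = u * orb h u (1 : ℕ) := by
      have := hφ (orb gH gU b * (gU * orb gH gU 1)⁻¹) (by simp)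
      simp only [map_mul, map_inv, map_orb] at this
      rw [Nat.cast_one]
      exact mul_inv_eq_one.mp this
    have hpoly : polyWord h u 1 P = 1 := by rw [hh, hu', ← map_polyWord]; exact hφ _ (by simp)
    have hsq : ∀ i : ℤ, orb h u i * orb h u i = 1 := fun i => by
      calc orb h u i * orb h u i = h ^ i * (u * u) * (h ^ i)⁻¹ := by simp only [orb]; group
        _ = 1 := by rw [hu]; group
    have hc : Commute u (orb h u (1 : ℕ)) := by
      have h1 : (u * orb h u (1 : ℕ)) * (u * orb h u (1 : ℕ)) = 1 := by rw [← htri]; exact hsq _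
      calc u * orb h u (1 : ℕ) = (u * orb h u (1 : ℕ))⁻¹ := eq_inv_of_mul_eq_one_left h1
        _ = (orb h u (1 : ℕ))⁻¹ * u⁻¹ := _root_.mul_inv_rev _ _
        _ = orb h u (1 : ℕ) * u := by
            rw [inv_eq_of_mul_eq_one_right hu, inv_eq_of_mul_eq_one_right (hsq _)]
    set S : Set G := Set.range fun i : ℤ => orb h u i with hS
    have hcomm : ∀ x ∈ S, ∀ y ∈ S, x * y = y * x := by
      rintro _ ⟨i, rfl⟩ _ ⟨j, rfl⟩
      have := gcd_commute htri hc i j
      rw [Nat.gcd_one_left, Nat.cast_one, mul_one, mul_one] at this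
      exact this
    have := isMulCommutative_closure_of hcomm
    refine exists_psi (Subgroup.closure S) h u (Subgroup.subset_closure ⟨0, orb_zero h u⟩)
      (exponent_closure hcomm (by rintro _ ⟨i, rfl⟩; rw [pow_two]; exact hsq i))
      (SL2Presentation.conj_invariant_closure h ?_) lam hsurj {P} (by simpa using hpoly) fun Q hQ => by
        rw [Ideal.mem_span_singleton]; exact minpoly.dvd _ _ hQ
    rintro _ ⟨i, rfl⟩
    refine Subgroup.subset_closure ⟨1 + i, ?_⟩
    simp only
    rw [← conj_orb, zpow_one]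

theorem pack_two (ω : Fˣ) (hp : p = 2) (hq : Fintype.card F = 2) : ∃ R0, R0.card ≤ 2 ∧ IsPack ω p R0 := by
  subst hp
  have hchar : CharP F 2 := (Algebra.charP_iff (ZMod 2) F 2).mp inferInstance
  have hall : ∀ x : F, x = 0 ∨ x = 1 := fun x => by
    by_contra h
    rw [not_or] at h
    have := Finset.card_le_univ ({0, 1, x} : Finset F)
    rw [Finset.card_insert_of_notMem (by simp [Ne.symm h.1]), Finset.card_insert_of_notMem (by simp [Ne.symm h.2]),
      Finset.card_singleton, hq] at this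
    omega
  have hω1 : ω = 1 := Units.ext ((hall ω).resolve_left ω.ne_zero)
  refine ⟨{gU * gU, gH}, Finset.card_le_two, ?_, ?_⟩
  · simp only [Finset.mem_insert, Finset.mem_singleton]
    rintro r (rfl | rfl)
    · rw [map_mul, model_U, ← pow_two, uL_pow_char (p := 2)]
    · rw [model_H, hω1, map_one]
  · intro G _ φ hφ
    have huu : φ gU * φ gU = 1 := by rw [← map_mul]; exact hφ _ (by simp)
    have hh : φ gH = 1 := hφ _ (by simp)
    have hcomm : ∀ x ∈ ({φ gU} : Set G), ∀ y ∈ ({φ gU} : Set G), x * y = y * x := by simp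
    have := isMulCommutative_closure_of hcomm
    refine exists_psi (Subgroup.closure ({φ gU} : Set G)) (φ gH) (φ gU) (Subgroup.subset_closure rfl)
      (exponent_closure hcomm (by simp [pow_two, huu])) (fun x hx => by simpa [hh] using hx) ((ω : F) ^ 2)
      (fun z => ?_) {X - 1} ?_ ?_
    · rcases hall z with rfl | rfl
      · exact ⟨0, map_zero _⟩
      · exact ⟨1, map_one _⟩
    · rintro Q rfl
      have hd : (X - 1 : (ZMod 2)[X]).natDegree = 1 := by rw [← C_1]; exact natDegree_X_sub_C 1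
      have h2 : (-1 : ZMod 2).val = 1 := rfl
      simp [polyWord, hd, List.range_succ, orb, hh, huu, coeff_X, coeff_one, h2, ZMod.val_one]
    · intro Q hQ
      rw [Ideal.mem_span_singleton, ← C_1]
      refine (dvd_iff_isRoot).mpr ((algebraMap (ZMod 2) F).injective ?_)
      rw [map_zero, ← aeval_algebraMap_apply_eq_algebraMap_eval, map_one]
      rwa [hω1, Units.val_one, one_pow] at hQ

/-! ### The matrices -/

/-- The cycle. -/
def Wm : SL3 := ⟨!![0, 0, 1; 1, 0, 0; 0, 1, 0], by simp [det_fin_three]⟩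

/-- The involution. -/
def Sm : SL3 := ⟨!![0, -1, 0; -1, 0, 0; 0, 0, -1], by simp [det_fin_three]⟩

/-- The block embedding. -/
def emb : Matrix.SpecialLinearGroup (Fin 2) F →* SL3 where
  toFun A := ⟨!![A.1 0 0, A.1 0 1, 0; A.1 1 0, A.1 1 1, 0; 0, 0, 1], by
    have := A.2
    rw [det_fin_two] at this
    simp [det_fin_three]
    linear_combination this⟩
  map_one' := Subtype.ext (by ext i j; fin_cases i <;> fin_cases j <;> simp)
  map_mul' A B := Subtype.ext (by
    show !![(A.1 * B.1) 0 0, (A.1 * B.1) 0 1, 0; (A.1 * B.1) 1 0, (A.1 * B.1) 1 1, 0; 0, 0, 1] =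
      !![A.1 0 0, A.1 0 1, 0; A.1 1 0, A.1 1 1, 0; 0, 0, 1] * !![B.1 0 0, B.1 0 1, 0; B.1 1 0, B.1 1 1, 0; 0, 0, 1]
    ext i j
    fin_cases i <;> fin_cases j <;> simp [Matrix.mul_apply, Fin.sum_univ_three, Fin.sum_univ_two])

theorem emb_coe (A : Matrix.SpecialLinearGroup (Fin 2) F) :
    (emb A : Matrix (Fin 3) (Fin 3) F) = !![A.1 0 0, A.1 0 1, 0; A.1 1 0, A.1 1 1, 0; 0, 0, 1] := rfl

theorem Wm_coe : ((Wm : SL3) : Matrix (Fin 3) (Fin 3) F) = !![0, 0, 1; 1, 0, 0; 0, 1, 0] := rfl

theorem Sm_coe : ((Sm : SL3) : Matrix (Fin 3) (Fin 3) F) = !![0, -1, 0; -1, 0, 0; 0, 0, -1] := rfl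

theorem T01_coe (h : (0 : Fin 3) ≠ 1) (a : F) :
    (T h a : Matrix (Fin 3) (Fin 3) F) = !![1, a, 0; 0, 1, 0; 0, 0, 1] := by
  rw [Matrix.SpecialLinearGroup.transvection_coe]
  ext r s
  fin_cases r <;> fin_cases s <;> simp [Matrix.single_apply, Matrix.one_apply]

theorem T10_coe (h : (1 : Fin 3) ≠ 0) (a : F) :
    (T h a : Matrix (Fin 3) (Fin 3) F) = !![1, 0, 0; a, 1, 0; 0, 0, 1] := by
  rw [Matrix.SpecialLinearGroup.transvection_coe]
  ext r s
  fin_cases r <;> fin_cases s <;> simp [Matrix.single_apply, Matrix.one_apply]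

theorem T12_coe (h : (1 : Fin 3) ≠ 2) (a : F) :
    (T h a : Matrix (Fin 3) (Fin 3) F) = !![1, 0, 0; 0, 1, a; 0, 0, 1] := by
  rw [Matrix.SpecialLinearGroup.transvection_coe]
  ext r s
  fin_cases r <;> fin_cases s <;> simp [Matrix.single_apply, Matrix.one_apply]

theorem T02_coe (h : (0 : Fin 3) ≠ 2) (a : F) :
    (T h a : Matrix (Fin 3) (Fin 3) F) = !![1, 0, a; 0, 1, 0; 0, 0, 1] := by
  rw [Matrix.SpecialLinearGroup.transvection_coe]
  ext r s
  fin_cases r <;> fin_cases s <;> simp [Matrix.single_apply, Matrix.one_apply]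

theorem emb_uL (a : F) : emb (uL a) = T (by decide : (0 : Fin 3) ≠ 1) a := by
  refine Subtype.ext ?_
  rw [emb_coe, T01_coe]
  simp [uL]

theorem W_conj {i j : Fin 3} (hij : i ≠ j) (a : F) :
    (Wm : SL3) * T hij a * Wm⁻¹ = T (show i + 1 ≠ j + 1 from fun e => hij (add_right_cancel e)) a := by
  rw [mul_inv_eq_iff_eq_mul]
  refine Subtype.ext ?_
  simp only [Matrix.SpecialLinearGroup.coe_mul, Matrix.SpecialLinearGroup.transvection_coe]
  ext r s
  fin_cases i <;> fin_cases j <;> simp at hij <;> fin_cases r <;> fin_cases s <;>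
    simp [Wm, Matrix.mul_apply, Fin.sum_univ_three, Matrix.single_apply]

theorem S_conj (a : F) : (Sm : SL3) * T (by decide : (0 : Fin 3) ≠ 1) a * Sm⁻¹ =
    T (by decide : (1 : Fin 3) ≠ 0) a := by
  rw [mul_inv_eq_iff_eq_mul]
  refine Subtype.ext ?_
  simp only [Matrix.SpecialLinearGroup.coe_mul, Matrix.SpecialLinearGroup.transvection_coe]
  ext r s
  fin_cases r <;> fin_cases s <;> simp [Sm, Matrix.mul_apply, Fin.sum_univ_three, Matrix.single_apply]

theorem S_conj_inv (a : F) : (Sm : SL3) * (T (by decide : (0 : Fin 3) ≠ 1) a)⁻¹ * Sm⁻¹ =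
    (T (by decide : (1 : Fin 3) ≠ 0) a)⁻¹ := by
  rw [← S_conj a]; group

/-- The evaluation. -/
def model4 (ω : Fˣ) : FG4 →* SL3 := FreeGroup.lift ![emb (uL 1), emb (dL ω), Wm, Sm]

/-- The inclusion of `u, h, t`. -/
def inc : FG →* FG4 :=
  FreeGroup.lift ![.of 0, .of 1,
    .of 0 * (.of 3 * (.of 0)⁻¹ * (.of 3)⁻¹) * .of 0]

/-- The word for a parameter. -/
noncomputable def pw (ω : Fˣ) (p : ℕ) [Fact p.Prime] [Algebra (ZMod p) F] (a : F) : FG4 :=
  inc (polyWord gH gU 1
    (if h : ∃ P : (ZMod p)[X], aeval ((ω : F) ^ 2) P = a then h.choose else 0))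

/-- The word of `x₁₂`. -/
noncomputable def yw (ω : Fˣ) (p : ℕ) [Fact p.Prime] [Algebra (ZMod p) F] (a : F) : FG4 :=
  .of 2 * pw ω p a * (.of 2)⁻¹

/-- The word of `x₀₂`. -/
noncomputable def zw (ω : Fˣ) (p : ℕ) [Fact p.Prime] [Algebra (ZMod p) F] (a : F) : FG4 :=
  .of 2 * (.of 2 * (.of 3 * pw ω p a * (.of 3)⁻¹) * (.of 2)⁻¹) * (.of 2)⁻¹

/-- The chain relation at `(1, b)`. -/
noncomputable def kw (ω : Fˣ) (p : ℕ) [Fact p.Prime] [Algebra (ZMod p) F] (b : F) : FG4 :=
  pw ω p 1 * yw ω p b * (zw ω p b * yw ω p b * pw ω p 1)⁻¹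

/-- The commutation in a row. -/
noncomputable def rw1 (ω : Fˣ) (p : ℕ) [Fact p.Prime] [Algebra (ZMod p) F] : FG4 :=
  pw ω p 1 * zw ω p 1 * (zw ω p 1 * pw ω p 1)⁻¹

/-- The commutation in a column. -/
noncomputable def cw1 (ω : Fˣ) (p : ℕ) [Fact p.Prime] [Algebra (ZMod p) F] : FG4 :=
  yw ω p 1 * zw ω p 1 * (zw ω p 1 * yw ω p 1)⁻¹

/-- The word `t` in `u` and `s`. -/
def tw : FG4 := .of 0 * (.of 3 * (.of 0)⁻¹ * (.of 3)⁻¹) * .of 0

/-- The conjugate of `h` by `w`. -/
def hw1 : FG4 := .of 2 * .of 1 * (.of 2)⁻¹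

/-- The relations shared by all cases. -/
noncomputable def baseRels (ω : Fˣ) (p : ℕ) [Fact p.Prime] [Algebra (ZMod p) F] : Finset FG4 :=
  let U : FG4 := .of 0
  let H : FG4 := .of 1
  let W : FG4 := .of 2
  let S : FG4 := .of 3
  {W * W * W, S * S, S * W * S⁻¹ * W, H * hw1 * (hw1 * H)⁻¹, S * H * S⁻¹ * H,
   H * hw1 * (W * hw1 * W⁻¹), S * (tw * (W * tw * W⁻¹) * (W * tw * W⁻¹))⁻¹,
   hw1 * U * hw1⁻¹ * (pw ω p (ω : F)⁻¹)⁻¹}

theorem baseRels_card (ω : Fˣ) : (baseRels ω p).card ≤ 8 := by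
  unfold baseRels
  iterate 7 refine (Finset.card_insert_le _ _).trans (Nat.succ_le_succ ?_)
  rw [Finset.card_singleton]

theorem model4_inc (ω : Fˣ) (r : FG) : model4 ω (inc r) = emb (model ω r) := by
  have hcomp : (model4 ω).comp inc = emb.comp (model ω) := by
    refine FreeGroup.ext_hom _ _ fun i => ?_
    fin_cases i
    · simp [model4, inc, model]
    · simp [model4, inc, model]
    · simp [model4, inc, model]
      rw [emb_uL, S_conj_inv, Matrix.SpecialLinearGroup.transvection_inv]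
      refine Subtype.ext ?_
      rw [emb_coe]
      simp [T01_coe, T10_coe, tL, Matrix.mul_fin_three]
  exact DFunLike.congr_fun hcomp r

variable (ω : Fˣ) (hω : orderOf ω = Fintype.card F - 1)

include hω

theorem model4_pw (a : F) : model4 ω (pw ω p a) = T (by decide : (0 : Fin 3) ≠ 1) a := by
  have h := aeval_sq_surjective (p := p) ω hω a
  rw [pw, dif_pos h, model4_inc, map_polyWord, model_H, model_U,
    polyWord_uL, pow_one, h.choose_spec, emb_uL]

theorem model4_yw (a : F) : model4 ω (yw ω p a) = T (by decide : (1 : Fin 3) ≠ 2) a := by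
  rw [yw, map_mul, map_mul, map_inv, model4_pw ω hω]
  simpa [model4] using W_conj (by decide : (0 : Fin 3) ≠ 1) a

theorem model4_zw (a : F) : model4 ω (zw ω p a) = T (by decide : (0 : Fin 3) ≠ 2) a := by
  simp only [zw, map_mul, map_inv, model4_pw ω hω]
  simp only [model4, FreeGroup.lift_apply_of, Matrix.cons_val]
  rw [S_conj, W_conj, W_conj]

theorem model4_base : ∀ r ∈ baseRels ω p, model4 ω r = 1 := by
  have hW3 : (Wm : SL3) * Wm * Wm = 1 := Subtype.ext (by
    show (!![0, 0, 1; 1, 0, 0; 0, 1, 0] : Matrix (Fin 3) (Fin 3) F) * !![0, 0, 1; 1, 0, 0; 0, 1, 0] *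
      !![0, 0, 1; 1, 0, 0; 0, 1, 0] = 1
    simp [Matrix.mul_fin_three, Matrix.one_fin_three])
  have hS2 : (Sm : SL3) * Sm = 1 := Subtype.ext (by
    show (!![0, -1, 0; -1, 0, 0; 0, 0, -1] : Matrix (Fin 3) (Fin 3) F) * !![0, -1, 0; -1, 0, 0; 0, 0, -1] = 1
    simp [Matrix.mul_fin_three, Matrix.one_fin_three])
  have hWi : (Wm : SL3)⁻¹ = Wm * Wm := inv_eq_of_mul_eq_one_left hW3
  have hSi : (Sm : SL3)⁻¹ = Sm := inv_eq_of_mul_eq_one_left hS2
  have hH : (emb (dL ω) : SL3).1 = !![(ω : F), 0, 0; 0, (ω : F)⁻¹, 0; 0, 0, 1] := by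
    show !![(dL ω).1 0 0, (dL ω).1 0 1, 0; (dL ω).1 1 0, (dL ω).1 1 1, 0; 0, 0, 1] = _
    simp [dL_coe]
  have hω0 : (ω : F) ≠ 0 := ω.ne_zero
  intro r hr
  simp only [baseRels, tw, hw1, Finset.mem_insert, Finset.mem_singleton] at hr
  rcases hr with rfl | rfl | rfl | rfl | rfl | rfl | rfl | rfl <;>
    simp only [map_mul, map_inv, model4_pw ω hω] <;>
    simp only [model4, FreeGroup.lift_apply_of, Matrix.cons_val]
  · exact hW3
  · exact hS2
  · rw [hSi]
    refine Subtype.ext ?_
    simp [Matrix.SpecialLinearGroup.coe_mul, Matrix.SpecialLinearGroup.coe_one, hH, Wm_coe, Sm_coe, T01_coe, T10_coe, Matrix.mul_fin_three, Matrix.one_fin_three, hω0, mul_comm]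
  · rw [mul_inv_eq_one, hWi]
    refine Subtype.ext ?_
    simp [Matrix.SpecialLinearGroup.coe_mul, Matrix.SpecialLinearGroup.coe_one, hH, Wm_coe, Sm_coe, T01_coe, T10_coe, Matrix.mul_fin_three, Matrix.one_fin_three, hω0, mul_comm]
  · rw [hSi]
    refine Subtype.ext ?_
    simp [Matrix.SpecialLinearGroup.coe_mul, Matrix.SpecialLinearGroup.coe_one, hH, Wm_coe, Sm_coe, T01_coe, T10_coe, Matrix.mul_fin_three, Matrix.one_fin_three, hω0, mul_comm]
  · rw [hWi]
    refine Subtype.ext ?_
    simp [Matrix.SpecialLinearGroup.coe_mul, Matrix.SpecialLinearGroup.coe_one, hH, Wm_coe, Sm_coe, T01_coe, T10_coe, Matrix.mul_fin_three, Matrix.one_fin_three, hω0, mul_comm]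
  · rw [mul_inv_eq_one, emb_uL, S_conj_inv, Matrix.SpecialLinearGroup.transvection_inv, hWi]
    refine Subtype.ext ?_
    simp [Matrix.SpecialLinearGroup.coe_mul, Matrix.SpecialLinearGroup.coe_one, hH, Wm_coe, Sm_coe, T01_coe, T10_coe, Matrix.mul_fin_three, Matrix.one_fin_three, hω0, mul_comm]
  · rw [mul_inv_eq_one, mul_inv_eq_iff_eq_mul, emb_uL, hWi]
    refine Subtype.ext ?_
    simp [Matrix.SpecialLinearGroup.coe_mul, Matrix.SpecialLinearGroup.coe_one, hH, Wm_coe, Sm_coe, T01_coe, T10_coe, Matrix.mul_fin_three, Matrix.one_fin_three, hω0, mul_comm]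

theorem model4_extra (b : F) :
    model4 ω (kw ω p b) = 1 ∧ model4 ω (rw1 ω p) = 1 ∧ model4 ω (cw1 ω p) = 1 := by
  refine ⟨?_, ?_, ?_⟩ <;>
    simp only [kw, rw1, cw1, map_mul, map_inv, model4_pw ω hω, model4_yw ω hω, model4_zw ω hω, mul_inv_eq_one] <;>
    refine Subtype.ext ?_ <;>
    simp [Matrix.SpecialLinearGroup.coe_mul, T01_coe, T12_coe, T02_coe, Matrix.mul_fin_three]

theorem model4_surjective : Function.Surjective (model4 ω) := by
  rw [← MonoidHom.range_eq_top]
  refine GL.SL_eq_top_of_transvection_mem fun i j hij a => ?_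
  have h01 : ∀ a : F, T (by decide : (0 : Fin 3) ≠ 1) a ∈ (model4 ω).range := fun a => by
    obtain ⟨p, hc⟩ := CharP.exists F
    haveI := hc
    haveI : Fact p.Prime := ⟨CharP.char_is_prime F p⟩
    letI := ZMod.algebra F p
    exact ⟨_, model4_pw (p := p) ω hω a⟩
  have hW : (Wm : SL3) ∈ (model4 ω).range := ⟨.of 2, by simp [model4]⟩
  have hS : (Sm : SL3) ∈ (model4 ω).range := ⟨.of 3, by simp [model4]⟩
  have h10 : ∀ a : F, T (by decide : (1 : Fin 3) ≠ 0) a ∈ (model4 ω).range := fun a => by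
    rw [← S_conj a]; exact mul_mem (mul_mem hS (h01 a)) (inv_mem hS)
  have step : ∀ {i j : Fin 3} (hij : i ≠ j), (∀ a : F, T hij a ∈ (model4 ω).range) →
      ∀ a : F, T (show i + 1 ≠ j + 1 from fun e => hij (add_right_cancel e)) a ∈ (model4 ω).range :=
    fun hij h a => by rw [← W_conj hij a]; exact mul_mem (mul_mem hW (h a)) (inv_mem hW)
  fin_cases i <;> fin_cases j <;> simp at hij
  · exact h01 a
  · exact step _ (step _ h10) a
  · exact h10 a
  · exact step _ h01 a
  · exact step _ (step _ h01) a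
  · exact step _ h10 a

/-- The abstract data in any group satisfying the shared relations and a pack. -/
theorem exists_data {R0 : Finset FG} (hpack : IsPack ω p R0) {G : Type} [Group G] (φ : FG4 →* G)
    (hbase : ∀ r ∈ baseRels ω p, φ r = 1) (hR0 : ∀ r ∈ R0, φ (inc r) = 1) :
    ∃ D : Data ω G, (∀ a, φ (pw ω p a) = D.ψ a) ∧ φ (.of 0) = D.ψ 1 ∧ φ (.of 1) = D.h ∧
      φ (.of 2) = D.w ∧ φ (.of 3) = D.s ∧ D.s = D.sWord := by
  obtain ⟨ψ, hadd, hone, hact, hword⟩ := hpack.2 (φ.comp inc)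
    hR0
  have hincU : inc gU = (.of 0 : FG4) := by simp [inc]
  have hincH : inc gH = (.of 1 : FG4) := by simp [inc]
  simp only [MonoidHom.comp_apply, hincU, hincH] at hone hact hword
  have hsurj := aeval_sq_surjective (p := p) ω hω
  have hpw : ∀ a, φ (pw ω p a) = ψ a := fun a => by
    have h := hsurj a
    rw [pw, dif_pos h, map_polyWord, map_polyWord, hincU, hincH, ← hword, h.choose_spec]
  have hb : ∀ r ∈ baseRels ω p, φ r = 1 := hbase
  simp only [baseRels, tw, hw1, Finset.forall_mem_insert, Finset.mem_singleton, forall_eq, map_mul, map_inv,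
    mul_inv_eq_one, hpw] at hb
  obtain ⟨w3, s2, sw, hh, sh, h3, hs, hu1⟩ := hb
  set u := φ (.of 0)
  set h := φ (.of 1)
  set w := φ (.of 2)
  set s := φ (.of 3)
  have hcomm : Commute h (w * h * w⁻¹) := hh
  have hact1 : ∀ a, (w * h * w⁻¹) * ψ a * (w * h * w⁻¹)⁻¹ = ψ ((ω : F)⁻¹ * a) := by
    intro a
    obtain ⟨P, rfl⟩ := hsurj a
    have horb : ∀ i : ℕ, (w * h * w⁻¹) * (h ^ i * u * (h ^ i)⁻¹) * (w * h * w⁻¹)⁻¹ =
        ψ ((ω : F)⁻¹ * ((ω : F) ^ 2) ^ i) := by
      intro i
      induction i with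
      | zero => simpa using hu1
      | succ i ih =>
        have e : (w * h * w⁻¹) * (h ^ (i + 1) * u * (h ^ (i + 1))⁻¹) * (w * h * w⁻¹)⁻¹ =
            h * ((w * h * w⁻¹) * (h ^ i * u * (h ^ i)⁻¹) * (w * h * w⁻¹)⁻¹) * h⁻¹ := by
          rw [pow_succ']
          calc (w * h * w⁻¹) * (h * h ^ i * u * (h * h ^ i)⁻¹) * (w * h * w⁻¹)⁻¹
              = ((w * h * w⁻¹) * h) * (h ^ i * u * (h ^ i)⁻¹) * ((w * h * w⁻¹) * h)⁻¹ := by group
            _ = (h * (w * h * w⁻¹)) * (h ^ i * u * (h ^ i)⁻¹) * (h * (w * h * w⁻¹))⁻¹ := by rw [hcomm.eq]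
            _ = _ := by group
        rw [e, ih, hact, pow_succ]
        congr 1
        ring
    induction P using Polynomial.induction_on' with
    | add P Q hP hQ =>
      rw [map_add, hadd, mul_add, hadd, ← hP, ← hQ]; group
    | monomial i c =>
      have hψn : ∀ (n : ℕ) (x : F), ψ (n • x) = ψ x ^ n := fun n x => by
        induction n with
        | zero => rw [zero_nsmul, pow_zero]; exact psi_zero hadd
        | succ n ih => rw [succ_nsmul, hadd, ih, pow_succ]
      have hlamP : ∀ i : ℕ, ψ (((ω : F) ^ 2) ^ i) = h ^ i * u * (h ^ i)⁻¹ := fun i => by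
        induction i with
        | zero => simp [hone]
        | succ i ih =>
          rw [pow_succ', ← hact, ih, pow_succ']; group
      rw [Polynomial.aeval_monomial, ← ZMod.natCast_zmod_val c, map_natCast, ← nsmul_eq_mul, mul_smul_comm,
        hψn, hψn, hlamP, ← conj_pow, horb]
  let D : Data ω G :=
    { ψ := ψ, w := w, s := s, h := h, add := hadd, w3 := w3, s2 := s2
      sw := eq_inv_of_mul_eq_one_left sw, hh := hcomm, sh := eq_inv_of_mul_eq_one_left sh, h3 := h3
      act0 := hact, act1 := hact1 }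
  refine ⟨D, hpw, hone.symm, rfl, rfl, rfl, ?_⟩
  have hsW : D.s = D.sWord := by
    have hneg : ψ (-1) = u⁻¹ := by
      refine eq_inv_of_mul_eq_one_left ?_
      rw [← hone, ← hadd, neg_add_cancel]
      exact psi_zero hadd
    show s = ψ 1 * (s * ψ (-1) * s⁻¹) * ψ 1 *
      (w * ψ 1 * w⁻¹ * (w * (s * ψ (-1) * s⁻¹) * w⁻¹) * (w * ψ 1 * w⁻¹)) *
      (w * ψ 1 * w⁻¹ * (w * (s * ψ (-1) * s⁻¹) * w⁻¹) * (w * ψ 1 * w⁻¹))
    rw [hneg, hone]
    refine hs.trans ?_
    group
  exact hsW

/-- Relations `R0`, the base and `X` present `SL₃` when `X` gives the chain and commutation relations. -/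
theorem build {R0 : Finset FG} (hpack : IsPack ω p R0) (X : Finset FG4) (hX : ∀ r ∈ X, model4 ω r = 1)
    (hcard : R0.card + X.card ≤ 6)
    (close : ∀ {G : Type} [Group G] (φ : FG4 →* G) (D : Data ω G),
      (∀ a, φ (pw ω p a) = D.ψ a) → φ (.of 2) = D.w → φ (.of 3) = D.s → (∀ r ∈ X, φ r = 1) →
        D.RowComm ∧ D.ColComm ∧ ∀ a b, D.K a b) :
    ∃ rels : Finset FG4, rels.card ≤ 14 ∧ Nonempty (PresentedGroup (↑rels : Set FG4) ≃* SL3) := by
  set rels := baseRels ω p ∪ R0.image inc ∪ X with hrels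
  refine ⟨rels, ?_, ?_⟩
  · refine (Finset.card_union_le _ _).trans ?_
    have h1 := (Finset.card_union_le (baseRels ω p) (R0.image inc))
    have h2 := Finset.card_image_le (s := R0) (f := inc)
    have h3 := baseRels_card (p := p) ω
    omega
  have hcomp : ∀ r : FG, model4 ω (inc r) = emb (model ω r) := model4_inc ω
  have hmodel : ∀ r ∈ rels, model4 ω r = 1 := by
    intro r hr
    simp only [hrels, Finset.mem_union, Finset.mem_image] at hr
    rcases hr with (hr | ⟨r, hr, rfl⟩) | hr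
    · exact model4_base ω hω r hr
    · rw [hcomp, hpack.1 r hr, map_one]
    · exact hX r hr
  set G := PresentedGroup (↑rels : Set FG4)
  set φ : FG4 →* G := PresentedGroup.mk _ with hφd
  have hφ : ∀ r ∈ rels, φ r = 1 := fun r hr => PresentedGroup.one_of_mem hr
  obtain ⟨D, hpw, hone, hhD, hwD, hsD, hsW⟩ := exists_data ω hω hpack φ
    (fun r hr => hφ r (Finset.mem_union_left _ (Finset.mem_union_left _ hr)))
    (fun r hr => hφ _ (Finset.mem_union_left _ (Finset.mem_union_right _ (Finset.mem_image_of_mem _ hr))))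
  obtain ⟨hrow, hcol, hK⟩ := close φ D hpw hwD hsD
    (fun r hr => hφ r (Finset.mem_union_right _ hr))
  have hgen : Subgroup.closure ({D.ψ 1, D.h, D.w, D.s} : Set G) = ⊤ := by
    rw [eq_top_iff, ← PresentedGroup.closure_range_of (↑rels : Set FG4)]
    refine Subgroup.closure_mono ?_
    rintro _ ⟨i, rfl⟩
    show φ (.of i) ∈ _
    fin_cases i <;> simp [hone, hhD, hwD, hsD]
  obtain ⟨hfin, hle⟩ := D.card_le hrow hcol hK hgen hsW
  let π : G →* SL3 := PresentedGroup.toGroup (f := ![emb (uL 1), emb (dL ω), Wm, Sm]) (rels := (↑rels : Set FG4)) hmodel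
  have hsur : Function.Surjective π := fun x => by
    obtain ⟨y, hy⟩ := model4_surjective ω hω x
    exact ⟨φ y, hy⟩
  exact ⟨MulEquiv.ofBijective π (hsur.bijective_of_nat_card_le hle)⟩

/-- Pack and extra relations: at most six, giving the chain and commutation relations. -/
theorem exists_close (p : ℕ) [Fact p.Prime] [Algebra (ZMod p) F] :
    ∃ (R0 : Finset FG) (X : Finset FG4), IsPack ω p R0 ∧
      (∀ r ∈ X, (∃ b : F, r = kw ω p b) ∨ r = rw1 ω p ∨ r = cw1 ω p) ∧ R0.card + X.card ≤ 6 ∧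
      ∀ {G : Type} [Group G] (φ : FG4 →* G) (D : Data ω G), (∀ a, φ (pw ω p a) = D.ψ a) → φ (.of 2) = D.w →
        φ (.of 3) = D.s → (∀ r ∈ X, φ r = 1) → D.RowComm ∧ D.ColComm ∧ ∀ a b, D.K a b := by
  have hchar : CharP F p := (Algebra.charP_iff (ZMod p) F p).mp inferInstance
  have hω' : ∀ x : Fˣ, x ∈ Subgroup.zpowers ω := fun x => by
    rw [Subgroup.eq_top_of_card_eq (Subgroup.zpowers ω)
      (by rw [Nat.card_zpowers, hω, Nat.card_eq_fintype_card, Fintype.card_units])]
    exact Subgroup.mem_top _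
  have hgen : ∀ z : F, z ≠ 0 → ∃ n : ℕ, (ω : F) ^ n = z := fun z hz => by
    obtain ⟨n, hn⟩ := (isOfFinOrder_of_finite ω).mem_powers_iff_mem_zpowers.2 (hω' (Units.mk0 z hz))
    exact ⟨n, by simpa using congrArg Units.val hn⟩
  have hK : ∀ {G : Type} [Group G] (φ : FG4 →* G) (D : Data ω G), (∀ a, φ (pw ω p a) = D.ψ a) →
      φ (.of 2) = D.w → φ (.of 3) = D.s → ∀ b, φ (kw ω p b) = 1 → D.K 1 b := by
    intro G _ φ D hpw hw hs b hb
    simp only [kw, yw, zw, map_mul, map_inv, hpw, hw, hs, mul_inv_eq_one] at hb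
    show _ = _
    rw [one_mul]
    exact hb
  by_cases h4 : Fintype.card F = 4
  · -- four elements
    obtain ⟨q2, hq2, hpk⟩ : ∃ R0, R0.card ≤ 3 ∧ IsPack ω p R0 := by
      refine pack_even ω hω ?_ (by omega)
      have h : p ∣ 4 := h4 ▸ (CharP.cast_eq_zero_iff F p _).1 (FiniteField.cast_card_eq_zero F)
      have := Nat.le_of_dvd (by norm_num) h
      have := (Fact.out : p.Prime).two_le
      interval_cases p
      · rfl
      · exact absurd h (by norm_num)
      · exact absurd (Fact.out : (4 : ℕ).Prime) (by norm_num)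
    have h3 : ∀ z : F, z ≠ 0 → z = 1 ∨ z = (ω : F) ∨ z = (ω : F) ^ 2 := fun z hz => by
      obtain ⟨n, rfl⟩ := hgen z hz
      have h : (ω : F) ^ 3 = 1 := by
        have := FiniteField.pow_card_sub_one_eq_one (ω : F) ω.ne_zero
        rwa [h4] at this
      rw [← Nat.div_add_mod n 3, pow_add, pow_mul, h, one_pow, one_mul]
      have := Nat.mod_lt n (show 3 > 0 by norm_num)
      interval_cases (n % 3) <;> simp
    refine ⟨_, {kw ω p 1, kw ω p (ω : F), kw ω p ((ω : F) ^ 2)}, hpk, ?_, ((Nat.add_le_add hq2 Finset.card_le_three).trans (le_refl _)), ?_⟩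
    · intro r hr
      simp only [Finset.mem_insert, Finset.mem_singleton] at hr
      rcases hr with rfl | rfl | rfl <;> exact Or.inl ⟨_, rfl⟩
    · intro G _ φ D hpw hw hs hX
      have hline : ∀ b, D.K 1 b := by
        intro b
        rcases eq_or_ne b 0 with rfl | hb
        · show _ = _
          simp [Data.x, psi_zero D.add]
        · rcases h3 b hb with rfl | rfl | rfl <;> exact hK φ D hpw hw hs _ (hX _ (by simp))
      have hall := D.K_all_of_line hgen hline
      refine ⟨fun a c => ?_, fun b c => ?_, hall⟩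
      · exact D.row_of_triple (hall a 1) (hall c 1) (hall (a + c) 1)
      · exact D.col_of_triple (hall 1 b) (hall 1 c) (hall 1 (b + c))
  have hspan := span_cubes ω hω h4
  by_cases hsmall : ∃ R0, R0.card ≤ 3 ∧ IsPack ω p R0
  · obtain ⟨R0, h0, hpk⟩ := hsmall
    refine ⟨_, {kw ω p 1, rw1 ω p, cw1 ω p}, hpk, ?_, ((Nat.add_le_add h0 Finset.card_le_three).trans (le_refl _)), ?_⟩
    · intro r hr
      simp only [Finset.mem_insert, Finset.mem_singleton] at hr
      rcases hr with rfl | rfl | rfl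
      exacts [Or.inl ⟨_, rfl⟩, Or.inr (Or.inl rfl), Or.inr (Or.inr rfl)]
    · intro G _ φ D hpw hw hs hX
      have h1 : Commute (D.x 0 1 1) (D.x 0 2 1) := by
        have h := hX (rw1 ω p) (by simp)
        simp only [rw1, zw, map_mul, map_inv, hpw, hw, hs, mul_inv_eq_one] at h
        exact h
      have h2 : Commute (D.x 1 2 1) (D.x 0 2 1) := by
        have h := hX (cw1 ω p) (by simp)
        simp only [cw1, yw, zw, map_mul, map_inv, hpw, hw, hs, mul_inv_eq_one] at h
        exact h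
      have hcol := D.colComm hgen hspan one_ne_zero one_ne_zero h2
      exact ⟨D.rowComm hgen hspan one_ne_zero one_ne_zero h1, hcol,
        D.K_all hgen hspan hcol (hK φ D hpw hw hs 1 (hX _ (by simp)))⟩
  · obtain ⟨d, hpp, hd⟩ := FiniteField.card F p
    have hp2 : p ≠ 2 := by
      intro e
      subst e
      rcases Nat.lt_or_ge (Fintype.card F) 4 with h | h
      · have h2 : Fintype.card F = 2 := by
          rw [hd] at h ⊢
          rcases Nat.lt_or_ge (d : ℕ) 2 with hd' | hd'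
          · rw [show (d : ℕ) = 1 by have := d.pos; omega]; rfl
          · have := Nat.pow_le_pow_right (show 0 < 2 by norm_num) hd'
            omega
        obtain ⟨R0, h0, hpk⟩ := pack_two (p := 2) ω rfl h2
        exact hsmall ⟨R0, by omega, hpk⟩
      · exact hsmall (pack_even ω hω rfl h)
    have hne : Fintype.card F ≠ p := fun e => by
      obtain ⟨R0, h0, hpk⟩ := pack_prime ω hω e
      exact hsmall ⟨R0, by omega, hpk⟩
    have hd2 : 2 ≤ (d : ℕ) := by
      by_contra hlt
      exact hne (by rw [hd, show (d : ℕ) = 1 by have := d.pos; omega, pow_one])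
    have h2F : (2 : F) ≠ 0 := Ring.two_ne_zero ((ringChar.eq F p).symm ▸ hp2)
    have hq : ¬ 3 ∣ Fintype.card F - 1 ∨ 16 < Fintype.card F := by
      have h3p : 3 ≤ p := by have := (Fact.out : p.Prime).two_le; omega
      have hp2d : p ^ 2 ≤ Fintype.card F := hd ▸ Nat.pow_le_pow_right (by omega) hd2
      rcases Nat.lt_or_ge 16 (Fintype.card F) with h | h
      · exact Or.inr h
      · left
        have hp5 : p < 5 := by nlinarith
        obtain rfl : p = 3 := by
          interval_cases p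
          · rfl
          · exact absurd (Fact.out : (4 : ℕ).Prime) (by norm_num)
        intro h3
        have : 3 ∣ Fintype.card F := by rw [hd]; exact dvd_pow_self 3 d.ne_zero
        omega
    obtain ⟨a, b, c, habc⟩ := exists_cube_triple ω hω' h2F hq
    obtain ⟨R0, h0, hpk⟩ := pack_odd (p := p) ω hω hp2
    refine ⟨_, {kw ω p 1}, hpk, ?_, (by rw [Finset.card_singleton]; omega), ?_⟩
    · intro r hr
      exact Or.inl ⟨1, Finset.mem_singleton.1 hr⟩
    · intro G _ φ D hpw hw hs hX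
      have h11 := hK φ D hpw hw hs 1 (hX _ (Finset.mem_singleton_self _))
      have hl : ∀ k : ℕ, D.K 1 ((ω : F) ^ (3 * k)) := fun k => by
        obtain ⟨g, g1, g2, g3⟩ := D.exists_acts 0 k
        have := Data.K.conj D h11 g1 g2 (by rw [← pow_add, ← mul_add]; exact g3)
        rwa [Nat.mul_zero, pow_zero, one_mul, mul_one] at this
      have hr' : ∀ k : ℕ, D.K ((ω : F) ^ (3 * k)) 1 := fun k => by
        obtain ⟨g, g1, g2, g3⟩ := D.exists_acts k 0
        have := Data.K.conj D h11 g1 g2 (by rw [← pow_add, ← mul_add]; exact g3)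
        rwa [Nat.mul_zero, pow_zero, mul_one, one_mul] at this
      have hne' : ∀ k : ℕ, (ω : F) ^ (3 * k) ≠ 0 := fun k => pow_ne_zero _ ω.ne_zero
      have hcol := D.colComm hgen hspan (hne' a) (hne' b)
        (D.col_of_triple (hl a) (hl b) (habc ▸ hl c))
      exact ⟨D.rowComm hgen hspan (hne' a) (hne' b) (D.row_of_triple (hr' a) (hr' b) (habc ▸ hr' c)), hcol,
        D.K_all hgen hspan hcol h11⟩

/-- The presentation. -/
theorem exists_presentation (p : ℕ) [Fact p.Prime] [Algebra (ZMod p) F] :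
    ∃ rels : Finset FG4, rels.card ≤ 14 ∧ Nonempty (PresentedGroup (↑rels : Set FG4) ≃* SL3) := by
  obtain ⟨R0, X, hpk, hX, hcard, hclose⟩ := exists_close ω hω p
  refine build ω hω hpk X (fun r hr => ?_) hcard hclose
  rcases hX r hr with ⟨b, rfl⟩ | rfl | rfl
  exacts [(model4_extra ω hω b).1, (model4_extra ω hω 1).2.1, (model4_extra ω hω 1).2.2]

end Cfsg.Agent.SL3Presentation
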